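/-
Project SYU (S5261, `p = 2`): essential subgroups of a group of type `³D₄(q)` embedded in a finite group that need not
contain it as a Sylow subgroup.
-/
import Cfsg.Agent.SY.Defs2

set_option autoImplicit false

namespace CL.SYU

open CL.SY
open Subgroup Cfsg CL.Even CL.Grp
open scoped commutatorElement

universe u

variable {F K : Type} [Field F] [Field K] [Algebra F K] [CharP K 2]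

section

variable {G : Type u} [Group G]

/-- working properties of an essential subgroup, modulo its centralizer -/
structure EssT (S E H : Subgroup G) : Prop where
  le : E ≤ S
  pS : IsPGroup 2 S
  cen : ∀ s ∈ S, (∀ x ∈ E, Commute s x) → s ∈ E
  Hle : H ≤ 𝒩(E)
  ne : ∃ g ∈ 𝒩(E), g ∉ H
  lt : ¬ S ≤ E
  od : ∀ {g t t₁}, g ∈ 𝒩(E) → g ∉ H → Iv S E t → Iv S E t₁ →
    (∃ n, Odd n ∧ (t * (g * t₁ * g⁻¹)) ^ n ∈ E ⊔ 𝒞(E)) ∧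
      ∃ w ∈ closure ({t, g * t₁ * g⁻¹} : Set G), w * t * w⁻¹ * (g * t₁ * g⁻¹)⁻¹ ∈ E ⊔ 𝒞(E)
  cnj : ∀ {t t₁}, Iv S E t → Iv S E t₁ → ∃ w ∈ 𝒩(E), w * t * w⁻¹ * t₁⁻¹ ∈ E ⊔ 𝒞(E)
  ker : ∀ {M : Subgroup G} {s t}, E ⊔ 𝒞(E) ≤ M → 𝒩(E) ≤ 𝒩(M) → s ∈ M → s ∈ S → s ∈ 𝒩(E) → s ∉ E → Iv S E t → t ∈ M
  chainW : ∀ {W C₁ C₂ C₃ C₄ : Subgroup G} {g t t₁ s}, W ≤ 𝒩(E) → g ∈ 𝒩(E) → g ∉ H → t ∈ S → t ∉ E → t₁ ∈ S →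
    t₁ ∈ 𝒩(E) → t₁ ∉ E → t ∈ W → g * t₁ * g⁻¹ ∈ W → W ≤ 𝒩(C₁) → W ≤ 𝒩(C₂) → W ≤ 𝒩(C₃) → W ≤ 𝒩(C₄) → s ∈ W →
    (∃ k, s ^ 2 ^ k = 1) → (∀ x ∈ E, x ∈ C₁ → Commute s x) → (∀ x ∈ E, x ∈ C₂ → ⁅s, x⁆ ∈ C₁) →
    (∀ x ∈ E, x ∈ C₃ → ⁅s, x⁆ ∈ C₂) → (∀ x ∈ E, x ∈ C₄ → ⁅s, x⁆ ∈ C₃) → (∀ x ∈ E, ⁅s, x⁆ ∈ C₄) → s ∈ E ⊔ 𝒞(E)
  chain : ∀ {C₁ C₂ C₃ C₄ : Subgroup G} {s}, 𝒩(E) ≤ 𝒩(C₁) → 𝒩(E) ≤ 𝒩(C₂) → 𝒩(E) ≤ 𝒩(C₃) → 𝒩(E) ≤ 𝒩(C₄) → s ∈ S →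
    s ∈ 𝒩(E) → (∀ x ∈ E, x ∈ C₁ → Commute s x) → (∀ x ∈ E, x ∈ C₂ → ⁅s, x⁆ ∈ C₁) →
    (∀ x ∈ E, x ∈ C₃ → ⁅s, x⁆ ∈ C₂) → (∀ x ∈ E, x ∈ C₄ → ⁅s, x⁆ ∈ C₃) → (∀ x ∈ E, ⁅s, x⁆ ∈ C₄) → s ∈ E

theorem mem_of_sup {S E : Subgroup G} (le : E ≤ S) (cen : ∀ s ∈ S, (∀ x ∈ E, Commute s x) → s ∈ E) {s : G} (hs : s ∈ S)
    (h : s ∈ E ⊔ 𝒞(E)) : s ∈ E := by
  obtain ⟨x, hx, c, hc, rfl⟩ := (mem_sup_nl (cent_le_norm E)).1 h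
  exact mul_mem hx (cen c ((S.mul_mem_cancel_left (le hx)).1 hs) fun y hy => (hc y hy).symm)

theorem EssT.mem {S E H : Subgroup G} (h : EssT S E H) {s : G} (hs : s ∈ S) (k : s ∈ E ⊔ 𝒞(E)) : s ∈ E :=
  mem_of_sup h.le h.cen hs k

/-- `E C(E)` centralizes what lies in `E` and is centralized by `E` -/
theorem sup_le_cent {E V : Subgroup G} (h1 : V ≤ E) (h2 : V ≤ 𝒞(E)) : E ⊔ 𝒞(E) ≤ 𝒞(V) :=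
  sup_le (le_centralizer_iff.1 h2) (cent_mono h1)

variable {𝒟 : Fd F K} (e : Pt 𝒟 →* G)

structure St : Prop extends 𝒟.LA where
  inj : Function.Injective e

structure St2 : Prop extends St e where
  cQ : gS e ⊓ 𝒞(gQ e) = gZ e
  cL : gS e ⊓ 𝒞(gL e) = gR e
  cA : gS e ⊓ 𝒞(gA e) = gL e
  cB : gS e ⊓ 𝒞(gB e) = gB e

end

def E1 : Prop := All.{u} fun _ _ _ _ _ _ _ _ _ _ e => St2 e → ∀ E H, EssT (gS e) E H → E ≤ gQ e → E = gQ e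
def E2a : Prop := All.{u} fun _ _ _ _ _ _ _ _ _ _ e => St2 e → ∀ E H, EssT (gS e) E H → ¬ E ≤ gQ e → ¬ E ≤ gR e →
  gB e ≤ E
def E2b : Prop := All.{u} fun _ _ _ _ _ _ _ _ _ _ e => St2 e → ∀ E H, EssT (gS e) E H → ¬ E ≤ gQ e → ¬ E ≤ gR e →
  gB e ≤ E → (∀ x ∈ E, (∀ y ∈ E, Commute x y) → x ∈ gZ e) → gA e ≤ E
def E2z : Prop := All.{u} fun _ _ _ _ _ _ _ _ _ _ e => St2 e → ∀ E H, EssT (gS e) E H → ¬ E ≤ gQ e → ¬ E ≤ gR e →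
  gB e ≤ E → ∀ x ∈ E, (∀ y ∈ E, Commute x y) → x ∈ gZ e
def E2c : Prop := All.{u} fun _ _ _ _ _ _ _ _ _ _ e => St2 e → ∀ E H, EssT (gS e) E H → ¬ E ≤ gQ e → ¬ E ≤ gR e →
  gA e ≤ E → 𝒩(E) ≤ 𝒩(E ⊓ gQ e)
def E2d : Prop := All.{u} fun _ _ _ _ _ _ _ _ _ _ e => St2 e → ∀ E H, EssT (gS e) E H → ¬ E ≤ gQ e → ¬ E ≤ gR e →
  gA e ≤ E → ¬ 𝒩(E) ≤ 𝒩(E ⊓ gQ e)
def E3a : Prop := All.{u} fun _ _ _ _ _ _ _ _ _ _ e => St2 e → ∀ E H, EssT (gS e) E H → ¬ E ≤ gQ e → E ≤ gR e →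
  gB e ≤ E
def E3b : Prop := All.{u} fun _ _ _ _ _ _ _ _ _ _ e => St2 e → ∀ E H, EssT (gS e) E H → ¬ E ≤ gQ e → E ≤ gR e →
  gB e ≤ E → ∀ x ∈ E, (∀ y ∈ E, Commute x y) → x ∈ gL e
def E3c : Prop := All.{u} fun _ _ _ _ _ _ _ _ _ _ e => St2 e → ∀ E H, EssT (gS e) E H → ¬ E ≤ gQ e → E ≤ gR e →
  gB e ≤ E → (∀ x ∈ E, (∀ y ∈ E, Commute x y) → x ∈ gL e) →
    E = gR e ∨ ∃ s, ∀ g, g ∈ E ↔ e (Pt.x5 s) * g * (e (Pt.x5 s))⁻¹ ∈ gA' e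
def E3d : Prop := All.{u} fun _ _ _ _ _ _ _ _ _ _ e => St2 e → ∀ E H s, EssT (gS e) E H →
  ¬ ∀ g, g ∈ E ↔ e (Pt.x5 s) * g * (e (Pt.x5 s))⁻¹ ∈ gA' e
def E3x : Prop := All.{u} fun _ _ _ _ _ _ _ _ _ _ e => St2 e → ∀ E H u, EssT (gS e) E H → (∀ g ∈ E, g ∈ gA' e) →
  gL e ≤ E → u ≠ 0 → e (Pt.x0 u) ∈ E → ¬ ∀ y ∈ E, Commute (e (Pt.x0 u)) y

end CL.SYU
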