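/-
Project SYU (port of SY): an essential subgroup inside `Q` is `Q`.
-/
import Cfsg.Agent.SYU.Defs

set_option autoImplicit false

namespace CL.SYU

open CL.SY

open Subgroup Cfsg CL.Even CL.Grp Pt
open scoped commutatorElement

universe u

namespace E1x

variable {F K : Type} [Field F] [Field K] [Algebra F K] {𝒟 : Fd F K}

/-- the commutator form on `Q` -/
def β (p q : Pt 𝒟) : F := p.t * q.a + q.t * p.a + 𝒟.T (p.d * q.b) + 𝒟.T (q.d * p.b)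

/-- scalar multiples -/
def sc (c : F) (p : Pt 𝒟) : Pt 𝒟 := ⟨0, c * p.a, c • p.b, 0, c • p.d, c * p.t⟩

theorem β_comm (p q : Pt 𝒟) : β p q = β q p := by simp only [β]; ring

theorem β_sc (c : F) (p q : Pt 𝒟) : β (sc c p) q = c * β p q := by
  simp only [β, sc, smul_mul_assoc, mul_smul_comm, map_smul, smul_eq_mul]; ring

theorem β_mul (p r : Pt 𝒟) {q : Pt 𝒟} (hq : q.v = 0) : β (p * q) r = β p r + β q r := by
  simp only [β, mul_a, mul_b, mul_d, mul_t, hq, 𝒟.adj_zero, 𝒟.N_zero, 𝒟.cr_comm 0, 𝒟.cr_zero, zero_mul, mul_zero,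
    map_zero, add_zero, smul_zero, add_mul, mul_add, map_add]
  ring

theorem pigeon (h : 𝒟.LA) (w z : Pt 𝒟) : ∃ p : Pt 𝒟, p.v = 0 ∧ ¬ (p.a = 0 ∧ p.b = 0 ∧ p.t = 0) ∧ β p w = 0 ∧ β p z = 0 := by
  have := h.finK
  have : Finite F := Finite.of_injective _ (algebraMap F K).injective
  have h1 : ¬ Function.Injective fun x : F × K × F =>
      (β (⟨0, x.1, x.2.1, 0, 0, x.2.2⟩ : Pt 𝒟) w, β (⟨0, x.1, x.2.1, 0, 0, x.2.2⟩ : Pt 𝒟) z) := fun k => by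
    have k1 := Nat.card_le_card_of_injective _ k
    have k2 := h.four
    have k3 : 0 < Nat.card F := Nat.card_pos
    simp only [Nat.card_prod] at k1
    nlinarith [Nat.mul_le_mul_right (Nat.card F) k2, Nat.le_of_mul_le_mul_left k1 k3]
  obtain ⟨x, y, k1, k2⟩ := Function.not_injective_iff.1 h1
  have k3 : ∀ r : Pt 𝒟, β (⟨0, x.1 - y.1, x.2.1 - y.2.1, 0, 0, x.2.2 - y.2.2⟩ : Pt 𝒟) r =
      β ⟨0, x.1, x.2.1, 0, 0, x.2.2⟩ r - β ⟨0, y.1, y.2.1, 0, 0, y.2.2⟩ r := fun r => by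
    simp only [β, zero_mul, map_zero, mul_sub, map_sub]; ring
  exact ⟨⟨0, x.1 - y.1, x.2.1 - y.2.1, 0, 0, x.2.2 - y.2.2⟩, rfl, fun k => k2 (Prod.ext (sub_eq_zero.1 k.1)
    (Prod.ext (sub_eq_zero.1 k.2.1) (sub_eq_zero.1 k.2.2))), by rw [k3, sub_eq_zero]; exact congrArg Prod.fst k1,
    by rw [k3, sub_eq_zero]; exact congrArg Prod.snd k1⟩

variable [CharP K 2] {G : Type u} [Group G] {e : Pt 𝒟 →* G}

theorem comm_e {p q : Pt 𝒟} (hp : p.v = 0) (hq : q.v = 0) : ⁅e p, e q⁆ = e (x3 (β p q)) := by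
  rw [← map_commutatorElement, comm_Q hp hq, β]

theorem x3_mem (c : F) : e (x3 c) ∈ gZ e := ⟨_, ⟨rfl, rfl, rfl, rfl, rfl⟩, rfl⟩

theorem mem_gZ {z : G} (h : z ∈ gZ e) : ∃ c, e (x3 c) = z := by
  obtain ⟨p, hp, rfl⟩ := h
  exact ⟨p.c, congrArg e (Pt.ext hp.1.symm hp.2.1.symm hp.2.2.1.symm rfl hp.2.2.2.1.symm hp.2.2.2.2.symm)⟩

theorem comm_iff (hi : Function.Injective e) {p q : Pt 𝒟} (hp : p.v = 0) (hq : q.v = 0) :
    Commute (e p) (e q) ↔ β p q = 0 := by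
  rw [← commutatorElement_eq_one_iff_commute, comm_e hp hq, map_eq_one_iff e hi]
  exact ⟨congrArg Pt.c, fun h => h ▸ rfl⟩

theorem comm_mem {s x : G} (hs : s ∈ gQ e) (hx : x ∈ gQ e) : ⁅s, x⁆ ∈ gZ e := by
  obtain ⟨p, hp, rfl⟩ := hs
  obtain ⟨q, hq, rfl⟩ := hx
  exact comm_e (e := e) hp hq ▸ x3_mem _

theorem comm_Z (hi : Function.Injective e) {s z : G} (hs : s ∈ gQ e) (hz : z ∈ gZ e) : Commute s z := by
  obtain ⟨p, hp, rfl⟩ := hs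
  obtain ⟨c, rfl⟩ := mem_gZ hz
  exact (comm_iff hi hp rfl).2 (by simp [β, x3])

/-- every element of `Z` is a commutator of a multiple -/
theorem scale {p q : Pt 𝒟} (hq : q.v = 0) (h : β p q ≠ 0) {z : G} (hz : z ∈ gZ e) : ∃ c, ⁅e (sc c p), e q⁆ = z := by
  obtain ⟨c, rfl⟩ := mem_gZ hz
  exact ⟨c / β p q, by rw [comm_e rfl hq, β_sc, div_mul_cancel₀ _ h]⟩

theorem nd (h : St2 e) {p : Pt 𝒟} (hp : p.v = 0) (h1 : ∀ q : Pt 𝒟, q.v = 0 → β q p = 0) : e p ∈ gZ e :=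
  h.cQ ▸ ⟨⟨p, rfl⟩, mem_centralizer_iff.2 (by rintro _ ⟨q, hq, rfl⟩; exact (comm_iff h.inj hq hp).2 (h1 q hq))⟩

end E1x

open E1x in
theorem e1 : E1.{u} := by
  intro G _ _ F K _ _ _ _ 𝒟 e h E H hE hle
  have := 𝒟.charF
  have hi := h.inj
  by_contra hne
  have hS : gQ e ≤ gS e := map_le_range e _
  have hZE : gZ e ≤ E := fun z hz => hE.cen z (map_le_range e _ hz) fun x hx => (comm_Z hi (hle hx) hz).symm
  have hQN : gQ e ≤ 𝒩(E) := le_norm_of_commutator_le (commutator_le.2 fun x hx s hs => hZE (comm_mem (hle hx) hs))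
  have hsc : ∀ (c : F) (p : Pt 𝒟), e p ∈ E → e (sc c p) ∈ E := fun c p hp => by
    have k0 : e (sc c p) ∈ gQ e := ⟨_, rfl, rfl⟩
    have k1 : 𝒩(E) ≤ 𝒩(E ⊓ 𝒞(E)) := le_norm_inf le_rfl (norm_le_norm_cent E)
    have k2 : ∀ x ∈ E, ⁅e (sc c p), x⁆ ∈ E ⊓ 𝒞(E) := fun x hx => have k := comm_mem k0 (hle hx)
      ⟨hZE k, mem_centralizer_iff.2 fun y hy => comm_Z hi (hle hy) k⟩
    refine hE.chain k1 k1 k1 k1 (hS k0) (hQN k0) (fun x hx hx' => ?_) (fun x hx _ => k2 x hx) (fun x hx _ => k2 x hx)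
      (fun x hx _ => k2 x hx) k2
    obtain ⟨q, hq, rfl⟩ := hle hx
    rw [comm_iff hi rfl hq, β_sc, (comm_iff hi ((mem_map_iff_mem hi).1 (hle hp)) hq).1 (comm_of_mem hx'.2 hp), mul_zero]
  have hN : ¬ 𝒩(E) ≤ 𝒩(gZ e) := fun k => hne (le_antisymm hle fun s hs =>
    have k2 : ∀ x ∈ E, ⁅s, x⁆ ∈ gZ e := fun x hx => comm_mem hs (hle hx)
    hE.chain k k k k (hS hs) (hQN hs) (fun x _ hx => comm_Z hi hs hx) (fun x hx _ => k2 x hx) (fun x hx _ => k2 x hx)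
      (fun x hx _ => k2 x hx) k2)
  have hab : ∀ x ∈ E, ∀ y ∈ E, Commute x y := fun x hx y hy => by
    obtain ⟨p, hp, rfl⟩ := hle hx
    obtain ⟨q, hq, rfl⟩ := hle hy
    by_contra k
    refine hN fun g hg => mem_norm_of_cj_le ?_
    rintro _ ⟨z, hz, rfl⟩
    obtain ⟨c, rfl⟩ := scale hq (mt (comm_iff hi hp hq).2 k) hz
    rw [map_commutatorElement]
    exact comm_mem (hle (conj_mem hg (hsc c p hx))) (hle (conj_mem hg hy))
  obtain ⟨g, hg, hgH, hgZ⟩ : ∃ g ∈ 𝒩(E), g ∉ H ∧ g ∉ 𝒩(gZ e) := by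
    by_contra! k
    obtain ⟨g, k1, k2⟩ := hE.ne
    refine hN fun a ha => by_contra fun k3 => k3 ?_
    have k4 : a ∈ H := by_contra fun k4 => k3 (k a ha k4)
    simpa using mul_mem (k _ (mul_mem ha k1) fun k5 => k2 ((mul_mem_cancel_left k4).1 k5)) (inv_mem (k g k1 k2))
  obtain ⟨z, hz, hz'⟩ : ∃ z ∈ gZ e, g⁻¹ * z * g ∉ gZ e := by
    by_contra! k
    refine hgZ (inv_mem_iff.1 (mem_norm_of_cj_le ?_))
    rintro _ ⟨z, hz, rfl⟩
    simpa using k z hz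
  obtain ⟨z', k1, k2⟩ := hle (conj_mem' hg (hZE hz))
  obtain ⟨t, ht, htE, htz⟩ : ∃ t : Pt 𝒟, t.v = 0 ∧ e t ∉ E ∧ β t z' = 0 := by
    by_contra! k
    have k3 : ∀ t : Pt 𝒟, t.v = 0 → β t z' = 0 → e t ∈ E := fun t k4 k5 => by_contra fun k6 => k t k4 k6 k5
    obtain ⟨w, k4, k5⟩ : ∃ w : Pt 𝒟, w.v = 0 ∧ β w z' ≠ 0 := by
      by_contra! k4
      exact hz' (k2 ▸ nd h k1 k4)
    obtain ⟨p, k6, k7, k8, k9⟩ := pigeon h.toLA w z'
    have k10 := (mem_map_iff_mem hi).1 (nd h k6 fun q hq => by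
      have k11 : (q * sc (β q z' / β w z') w).v = 0 := by rw [mul_v, hq, zero_add]; rfl
      have := (comm_iff hi k11 k6).1 (hab _ (k3 _ k11 (by
        rw [β_mul _ _ rfl, β_sc, div_mul_cancel₀ _ k5, CharTwo.add_self_eq_zero])) _ (k3 p k6 k9))
      rwa [β_mul _ _ rfl, β_sc, β_comm w p, k8, mul_zero, add_zero] at this)
    exact k7 ⟨k10.2.1, k10.2.2.1, k10.2.2.2.2⟩
  have htQ : e t ∈ gQ e := ⟨t, ht, rfl⟩
  have hI : Iv (gS e) E (e t) := ⟨hS htQ, hQN htQ, htE, by rw [← map_mul, sq_Q ht]; exact hZE (x3_mem _)⟩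
  obtain ⟨-, w, hw, hy⟩ := hE.od hg hgH hI hI
  obtain ⟨x, hx, hx'⟩ : ∃ x ∈ E, ¬ Commute (e t) x := by
    by_contra! k
    exact htE (hE.cen _ (hS htQ) k)
  obtain ⟨p, hp, rfl⟩ := hle hx
  obtain ⟨c, hc⟩ := scale (p := p) ht (fun k => hx' ((comm_iff hi hp ht).2 k).symm) hz
  have hw' : w ∈ 𝒩(E) ⊓ centralizer {z} := (closure_le _).2 (by
    rintro _ (rfl | rfl)
    · exact ⟨hQN htQ, mem_centralizer_singleton_iff.2 (comm_Z hi htQ hz)⟩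
    · refine ⟨𝒩(E).mul_mem (mul_mem hg (hQN htQ)) (inv_mem hg), mem_centralizer_singleton_iff.2 ?_⟩
      have := ((comm_iff hi ht k1).2 htz).eq
      rw [k2] at this
      calc g * e t * g⁻¹ * z = g * (e t * (g⁻¹ * z * g)) * g⁻¹ := by group
        _ = z * (g * e t * g⁻¹) := by rw [this]; group) hw
  have k3 := conj_mem hw'.1 (hsc c p hx)
  have k4 := comm_mem (hle (conj_mem' hg k3)) htQ
  have hy := sup_le_cent le_rfl (fun x hx y hy => (hab y hy x hx).eq) hy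
  have k5 := (hy _ (conj_mem hg (hZE k4))).symm
  have k6 := (hy _ k3).symm
  have k7 : w * z * w⁻¹ = z := mul_inv_eq_iff_eq_mul.2 (mem_centralizer_singleton_iff.1 hw'.2)
  refine hz' ?_
  rw [← k7, ← hc]
  convert k4 using 1
  obtain ⟨y, hy'⟩ : ∃ y, w * e t * w⁻¹ * (g * e t * g⁻¹)⁻¹ = y := ⟨_, rfl⟩
  rw [hy'] at k5 k6
  generalize e (sc c p) = a at *
  calc g⁻¹ * (w * ⁅a, e t⁆ * w⁻¹) * g
      = g⁻¹ * (w * a * w⁻¹ * y * (g * e t * g⁻¹) * (w * a * w⁻¹)⁻¹ * (g * e t * g⁻¹)⁻¹ * y⁻¹) * g := by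
        rw [← hy', commutatorElement_def]; group
    _ = g⁻¹ * (y * (g * ⁅g⁻¹ * (w * a * w⁻¹) * g, e t⁆ * g⁻¹) * y⁻¹) * g := by
        rw [← k6, commutatorElement_def]; group
    _ = _ := by rw [k5]; group

end CL.SYU
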