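/-
Project SYU (port of SY) (S1770): an essential subgroup outside `Q` and `R` contains `B`.
-/
import Cfsg.Agent.SYU.Defs
import Cfsg.Agent.Even.CharP

set_option autoImplicit false

namespace CL.SYU

open CL.SY

open Subgroup Cfsg CL.Even CL.Grp Pt
open scoped commutatorElement

universe u

namespace E2ax

variable {F K : Type} [Field F] [Field K] [Algebra F K] [CharP K 2] {𝒟 : Fd F K} {p q s : Pt 𝒟}

theorem x3_Z (c : F) : (x3 c : Pt 𝒟) ∈ Z 𝒟 := ⟨rfl, rfl, rfl, rfl, rfl⟩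

theorem swap {H : Subgroup (Pt 𝒟)} (h : ⁅p, q⁆ ∈ H) : ⁅q, p⁆ ∈ H := commutatorElement_inv p q ▸ inv_mem h

theorem cZ (hq : q ∈ Z 𝒟) (p : Pt 𝒟) : Commute p q := by
  rw [← commutatorElement_eq_one_iff_commute, comm_L p hq.1 hq.2.2.1 hq.2.2.2.1 hq.2.2.2.2, hq.2.1, mul_zero]
  rfl

theorem cB (hs : s ∈ B 𝒟) (p : Pt 𝒟) : ⁅s, p⁆ ∈ L 𝒟 := swap ⟨comm_v p s,
  by rw [comm_A_b p hs.1 hs.2.2, hs.2.1, Fd.cr_zero],
  by rw [comm_d, hs.1, hs.2.2, smul_zero, zero_smul, add_zero], comm_t p s⟩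

theorem cL (hs : s ∈ L 𝒟) (p : Pt 𝒟) : ⁅s, p⁆ ∈ Z 𝒟 := swap (comm_L p hs.1 hs.2.1 hs.2.2.1 hs.2.2.2 ▸ x3_Z _)

theorem cBB (hs : s ∈ B 𝒟) (hp : p ∈ B 𝒟) : Commute s p := by
  rw [← commutatorElement_eq_one_iff_commute, comm_Q hs.1 hp.1, hs.2.1, hs.2.2, hp.2.1, hp.2.2]
  simp only [zero_mul, map_zero, add_zero]
  rfl

/-- a central involution of a subgroup containing an element outside `Q` and `R` -/
theorem inB (h : 𝒟.LA) (pv : p.v ≠ 0) (pt : p.t ≠ 0) (hc : ⁅p, q⁆ = 1) (h2 : q * q = 1) : q ∈ B 𝒟 := by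
  have n : 𝒟.N p.v ≠ 0 := fun k => pv (h.N0 _ k)
  have qt : q.t = 0 := by
    by_contra k
    have v0 : q.v = 0 := (smul_eq_zero.1 ((sq_d q).symm.trans (congrArg Pt.d h2))).resolve_left k
    have := congrArg Pt.c (comm_sq p v0)
    rw [hc, mul_one] at this
    exact mul_ne_zero (pow_ne_zero 2 k) n this.symm
  have qv : q.v = 0 := by
    have := (comm_d p q).symm.trans (congrArg Pt.d hc)
    rw [qt, zero_smul, add_zero] at this
    exact (smul_eq_zero.1 this).resolve_left pt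
  obtain ⟨c, k⟩ := h.cr0 _ _ pv ((comm_A_b p qv qt).symm.trans (congrArg Pt.b hc))
  have e1 : 𝒟.T (p.v * q.b) + 𝒟.T (𝒟.adj p.v * q.d) = 0 := (comm_A_a p qv qt).symm.trans (congrArg Pt.a hc)
  have e2 : q.t * q.a + 𝒟.T (q.d * q.b) = 0 := congrArg Pt.c ((sq_Q qv).symm.trans h2)
  rw [k, mul_smul_comm, map_smul, Fd.T_adj, smul_eq_mul] at e1
  rw [k, qt, smul_mul_assoc, map_smul, smul_eq_mul, eq_neg_of_add_eq_zero_left e1] at e2
  have : c = 0 := by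
    by_contra c0
    exact mul_ne_zero c0 (mul_ne_zero c0 n) (by linear_combination -e2)
  exact ⟨qv, by rw [k, this, zero_smul], qt⟩

end E2ax

open E2ax in
theorem e2a : E2a.{u} := by
  intro G _ _ F K _ _ _ _ 𝒟 e h E H hE nQ nR
  obtain ⟨f, hf, fv, ft⟩ : ∃ f, e f ∈ E ∧ f.v ≠ 0 ∧ f.t ≠ 0 := by
    obtain ⟨x, hx, k1⟩ := SetLike.not_le_iff_exists.1 nQ
    obtain ⟨y, hy, k2⟩ := SetLike.not_le_iff_exists.1 nR
    obtain ⟨x, rfl⟩ := hE.le hx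
    obtain ⟨y, rfl⟩ := hE.le hy
    have xv : x.v ≠ 0 := fun k => k1 ⟨x, k, rfl⟩
    have yt : y.t ≠ 0 := fun k => k2 ⟨y, k, rfl⟩
    by_cases xt : x.t = 0
    · by_cases yv : y.v = 0
      · exact ⟨x * y, map_mul e x y ▸ mul_mem hx hy, by rwa [mul_v, yv, add_zero], by rwa [mul_t, xt, zero_add]⟩
      · exact ⟨y, hy, yv, yt⟩
    · exact ⟨x, hx, xv, xt⟩
  have nV := norm_le_norm_ozc (p := 2) E
  have sqL : ∀ s ∈ L 𝒟, e s ^ 2 = 1 := fun s hs => by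
    rw [pow_two, ← map_mul, sq_Q hs.1, hs.2.2.1, hs.2.2.2, zero_mul, zero_mul, map_zero, add_zero]
    exact map_one e
  have ZV : ∀ z ∈ Z 𝒟, e z ∈ omegaOneCenter 2 E := fun z hz => by
    have k : ∀ x ∈ E, Commute (e z) x := fun x hx => by
      obtain ⟨p, rfl⟩ := hE.le hx
      exact (cZ hz p).symm.map e
    exact mem_ozc.2 ⟨hE.cen _ ⟨z, rfl⟩ k, mem_centralizer_iff.2 fun x hx => (k x hx).symm.eq, sqL z ⟨hz.1, hz.2.2⟩⟩
  have VB : ∀ q, e q ∈ omegaOneCenter 2 E → q ∈ B 𝒟 := fun q hq => inB h.toSt.toLA fv ft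
    (h.inj (by rw [map_commutatorElement, map_one]
               exact commutatorElement_eq_one_iff_mul_comm.2 (comm_of_mem (mem_ozc.1 hq).2.1 hf)))
    (h.inj (by rw [map_mul, map_one, ← pow_two, (mem_ozc.1 hq).2.2]))
  have fin : ∀ (C : Subgroup G) (s), s ∈ B 𝒟 → 𝒩(E) ≤ 𝒩(C) → C ≤ E → (∀ p, e p ∈ E → e ⁅s, p⁆ ∈ C) →
      (∀ p, e p ∈ C → p ∈ B 𝒟 ∨ ⁅s, p⁆ ∈ Z 𝒟) → e s ∈ E := fun C s hs nC CE h1 h2 => by
    have k : ∀ x ∈ E, ⁅e s, x⁆ ∈ C := fun x hx => by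
      obtain ⟨p, rfl⟩ := hE.le hx
      exact map_commutatorElement e s p ▸ h1 p hx
    refine hE.chain nV nC nC nC ⟨s, rfl⟩ (mem_normalizer_fintype fun x hx => ?_) (fun x hx m => ?_)
      (fun x hx m => ?_) (fun x hx _ => k x hx) (fun x hx _ => k x hx) k
    · simpa [commutatorElement_def] using mul_mem (CE (k x hx)) hx
    · obtain ⟨p, rfl⟩ := hE.le hx
      exact (cBB hs (VB p m)).map e
    · obtain ⟨p, rfl⟩ := hE.le hx
      rw [← map_commutatorElement]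
      exact ZV _ ((h2 p m).elim (fun b => comm_Q hs.1 b.1 ▸ x3_Z _) id)
  have LE : ∀ s ∈ L 𝒟, e s ∈ E := fun s hs => fin _ s ⟨hs.1, hs.2.2⟩ nV (ozc_le E) (fun p _ => ZV _ (cL hs p))
    fun p hp => .inl (VB p hp)
  rintro _ ⟨s, hs, rfl⟩
  by_cases hW : ∀ w, e w ∈ up E _ (le_normalizer.trans nV) → w.v = 0
  · refine fin _ s hs (norm_up le_rfl nV) (fun _ hx => hx.1) (fun p _ => ⟨LE _ (cB hs p), fun y hy => ?_⟩)
      fun p hp => .inr (comm_Q hs.1 (hW p hp) ▸ x3_Z _)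
    obtain ⟨q, rfl⟩ := hE.le hy
    exact map_commutatorElement e _ q ▸ ZV _ (cL (cB hs p) q)
  push Not at hW
  obtain ⟨w, hw, wv⟩ := hW
  have k : ∀ q, e q ∈ E → w.t • q.v + q.t • w.v = 0 := fun q hq =>
    comm_d w q ▸ (VB _ (map_commutatorElement e w q ▸ hw.2 _ hq)).2.1
  have wt : w.t ≠ 0 := fun n => by
    have := k f hf
    rw [n, zero_smul, zero_add] at this
    exact smul_ne_zero ft wv this
  have OQ : omegaOne 2 E ≤ gQ e := (closure_le _).2 fun x hx => by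
    obtain ⟨q, rfl⟩ := hE.le hx.1
    refine ⟨q, ((smul_eq_zero.1 ((sq_d q).symm.trans (congrArg Pt.d (h.inj (a₂ := 1) (by
      rw [map_mul, map_one, ← pow_two]; exact hx.2))))).elim (fun qt => ?_) id : q.v = 0), rfl⟩
    have := k q hx.1
    rw [qt, zero_smul, add_zero] at this
    exact (smul_eq_zero.1 this).resolve_left wt
  refine fin (omegaOne 2 E) s hs (fun g hg => mem_norm_of_cj_le (map_le_iff_le_comap.2 ((closure_le _).2 fun x hx =>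
    subset_closure ⟨conj_mem hg hx.1, ?_⟩))) ((closure_le _).2 fun _ hx => hx.1)
    (fun p _ => subset_closure ⟨LE _ (cB hs p), sqL _ (cB hs p)⟩)
    fun p hp => .inr (comm_Q hs.1 ((mem_map_iff_mem h.inj).1 (OQ hp)) ▸ x3_Z _)
  rw [← map_pow, hx.2, map_one]

end CL.SYU
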