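/-
Project SYU (port of SY) (S1770): an essential subgroup containing `B` with centre `Z` contains `A`.
-/
import Cfsg.Agent.SYU.Defs

set_option autoImplicit false

namespace CL.SYU

open CL.SY

open Subgroup Cfsg CL.Even CL.Grp Pt
open scoped commutatorElement

universe u

namespace E2bx

variable {F K : Type} [Field F] [Field K] [Algebra F K] [CharP K 2] {𝒟 : Fd F K} {p q s : Pt 𝒟}

theorem x3_Z (c : F) : (x3 c : Pt 𝒟) ∈ Z 𝒟 := ⟨rfl, rfl, rfl, rfl, rfl⟩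

theorem swap {H : Subgroup (Pt 𝒟)} (h : ⁅p, q⁆ ∈ H) : ⁅q, p⁆ ∈ H := commutatorElement_inv p q ▸ inv_mem h

theorem cZ (hq : q ∈ Z 𝒟) (p : Pt 𝒟) : Commute p q := by
  rw [← commutatorElement_eq_one_iff_commute, comm_L p hq.1 hq.2.2.1 hq.2.2.2.1 hq.2.2.2.2, hq.2.1, mul_zero]
  rfl

theorem cA (hs : s ∈ A 𝒟) (p : Pt 𝒟) : ⁅p, s⁆ ∈ B 𝒟 :=
  ⟨comm_v p s, by rw [comm_d, (mem_A.1 hs).1, (mem_A.1 hs).2, smul_zero, zero_smul, add_zero], comm_t p s⟩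

theorem cB (hs : s ∈ B 𝒟) (p : Pt 𝒟) : ⁅p, s⁆ ∈ L 𝒟 :=
  have k := cA (mem_A.2 ⟨hs.1, hs.2.2⟩) p
  ⟨k.1, by rw [comm_A_b p hs.1 hs.2.2, hs.2.1, Fd.cr_zero], k.2⟩

theorem cL (hs : s ∈ L 𝒟) (p : Pt 𝒟) : ⁅p, s⁆ ∈ Z 𝒟 := comm_L p hs.1 hs.2.1 hs.2.2.1 hs.2.2.2 ▸ x3_Z _

theorem inv_b (hs : s ∈ B 𝒟) : s⁻¹.b = s.b := by simp [inv_def, mul_b, hs.1, hs.2.1, hs.2.2, Fd.cr_zero]

theorem cc (hs : s ∈ A 𝒟) (h : 𝒟.cr q.v p.v = 0) : ⁅⁅s, p⁆, q⁆ ∈ Z 𝒟 := by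
  have m := swap (cA hs p)
  have k := cB m q
  refine swap ⟨k.1, ?_, k.2⟩
  rw [comm_A_a q m.1 m.2.2, m.2.1, ← commutatorElement_inv p s, inv_b (cA hs p),
    comm_A_b p (mem_A.1 hs).1 (mem_A.1 hs).2, Fd.T_cr, Fd.cr_comm _ q.v, Fd.T_cr, Fd.cr_comm _ p.v, h]
  simp

theorem v0 (h : 𝒟.LA) (k : ∀ q ∈ B 𝒟, ⁅p, q⁆ ∈ Z 𝒟) : p.v = 0 := h.nd _ fun b => by
  have := (k (x2 b) ⟨rfl, rfl, rfl⟩).2.1
  rw [comm_A_a p rfl rfl] at this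
  simpa [x2] using this

variable {G : Type u} [Group G]

/-- `{x ∈ E | [x, C] ≤ Y}` -/
def up2 (E C Y : Subgroup G) (hY : E ≤ 𝒩(Y)) : Subgroup G where
  carrier := {x | x ∈ E ∧ ∀ y ∈ C, ⁅x, y⁆ ∈ Y}
  one_mem' := ⟨one_mem _, fun y _ => by simpa using one_mem Y⟩
  mul_mem' := fun {a b} ha hb => ⟨mul_mem ha.1 hb.1, fun y hy => by
    rw [show ⁅a * b, y⁆ = a * ⁅b, y⁆ * a⁻¹ * ⁅a, y⁆ by simp only [commutatorElement_def]; group]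
    exact mul_mem (conj_mem (hY ha.1) (hb.2 y hy)) (ha.2 y hy)⟩
  inv_mem' := fun {a} ha => ⟨inv_mem ha.1, fun y hy => by
    rw [show ⁅a⁻¹, y⁆ = a⁻¹ * ⁅a, y⁆⁻¹ * a⁻¹⁻¹ by simp only [commutatorElement_def]; group]
    exact conj_mem (hY (inv_mem ha.1)) (inv_mem (ha.2 y hy))⟩

variable [Finite G]

theorem norm_up2 {E C Y W : Subgroup G} {hY : E ≤ 𝒩(Y)} (h1 : W ≤ 𝒩(E)) (h2 : W ≤ 𝒩(C)) (h3 : W ≤ 𝒩(Y)) :
    W ≤ 𝒩(up2 E C Y hY) := fun g hg => mem_norm_of_cj_le (by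
  rintro _ ⟨x, hx, rfl⟩
  refine ⟨conj_mem (h1 hg) hx.1, fun y hy => ?_⟩
  have := conj_mem (h3 hg) (hx.2 _ (conj_mem (inv_mem (h2 hg)) hy))
  simpa [commutatorElement_def, mul_assoc] using this)

variable {e : Pt 𝒟 →* G} {E H C : Subgroup G}

theorem zl (h : St e) (hE : EssT (gS e) E H) (nZ : 𝒩(E) ≤ 𝒩(gZ e)) (nC : 𝒩(E) ≤ 𝒩(C)) (BC : gB e ≤ C) (CE : C ≤ E)
    (hc : ∀ p q, e p ∈ C → e q ∈ C → 𝒟.cr p.v q.v = 0) : gA e ≤ E := by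
  rintro _ ⟨s, hs, rfl⟩
  have sB : ∀ x ∈ E, ⁅e s, x⁆ ∈ C := fun x hx => by
    obtain ⟨p, rfl⟩ := hE.le hx
    exact BC ⟨_, swap (cA hs p), map_commutatorElement e s p⟩
  refine hE.chain nZ (norm_up2 (hY := le_normalizer.trans nZ) le_rfl nC nZ) nC nC ⟨s, rfl⟩
    (mem_normalizer_fintype fun x hx => ?_) ?_ (fun x hx k => ?_) (fun x hx k => ⟨CE (sB x hx), fun y hy => ?_⟩)
    (fun x hx _ => sB x hx) sB
  · simpa [commutatorElement_def] using mul_mem (CE (sB x hx)) hx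
  · rintro _ - ⟨z, hz, rfl⟩
    exact (cZ hz s).map e
  · obtain ⟨p, rfl⟩ := hE.le hx
    have := v0 h.toLA (p := p) fun q hq => (mem_map_iff_mem h.inj).1
      (map_commutatorElement e p q ▸ k.2 _ (BC ⟨q, hq, rfl⟩))
    exact ⟨_, comm_Q (mem_A.1 hs).1 this ▸ x3_Z _, map_commutatorElement e s p⟩
  · obtain ⟨p, rfl⟩ := hE.le hx
    obtain ⟨q, rfl⟩ := hE.le (CE hy)
    exact ⟨_, cc hs (hc q p hy k), by simp only [map_commutatorElement]⟩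

end E2bx

open E2bx in
theorem e2b : E2b.{u} := by
  intro G _ _ F K _ _ _ _ 𝒟 e h E H hE nQ nR BE hZ
  have ZE : gZ e = E ⊓ 𝒞(E) := le_antisymm (by
    rintro _ ⟨z, hz, rfl⟩
    refine ⟨BE ⟨z, ⟨hz.1, hz.2.2.2⟩, rfl⟩, mem_centralizer_iff.2 fun x hx => ?_⟩
    obtain ⟨p, rfl⟩ := hE.le hx
    exact ((cZ hz p).map e).eq) fun x hx => hZ x hx.1 fun y hy => (comm_of_mem hx.2 hy).symm
  have nZ : 𝒩(E) ≤ 𝒩(gZ e) := ZE ▸ le_norm_inf le_rfl (norm_le_norm_cent E)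
  by_cases hc : ∀ p q, e p ∈ E → e q ∈ E → 𝒟.cr p.v q.v = 0
  · exact zl h.toSt hE nZ le_rfl BE le_rfl hc
  push Not at hc
  obtain ⟨a, b, ha, hb, ab⟩ := hc
  obtain ⟨f, hf, fv, ft⟩ : ∃ f, e f ∈ E ∧ f.v ≠ 0 ∧ f.t ≠ 0 := by
    obtain ⟨x, hx, k1⟩ := SetLike.not_le_iff_exists.1 nQ
    obtain ⟨y, hy, k2⟩ := SetLike.not_le_iff_exists.1 nR
    obtain ⟨x, rfl⟩ := hE.le hx
    obtain ⟨y, rfl⟩ := hE.le hy
    have xv : x.v ≠ 0 := fun k => k1 ⟨x, k, rfl⟩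
    have yt : y.t ≠ 0 := fun k => k2 ⟨y, k, rfl⟩
    by_cases xt : x.t = 0
    · by_cases yv : y.v = 0
      · exact ⟨x * y, map_mul e x y ▸ mul_mem hx hy, by rwa [mul_v, yv, add_zero], by rwa [mul_t, xt, zero_add]⟩
      · exact ⟨y, hy, yv, yt⟩
    · exact ⟨x, hx, xv, xt⟩
  have EZ : E ≤ 𝒩(gZ e) := le_normalizer.trans nZ
  have n2 : 𝒩(E) ≤ 𝒩(up E (gZ e) EZ) := norm_up le_rfl nZ
  have W2 : ∀ p, e p ∈ up E (gZ e) EZ → p.d = 0 := fun p hp => by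
    have k : ∀ q, e q ∈ E → ⁅p, q⁆ ∈ Z 𝒟 := fun q hq =>
      (mem_map_iff_mem h.inj).1 (map_commutatorElement e p q ▸ hp.2 _ hq)
    have pv := v0 h.toLA fun q hq => k q (BE ⟨q, hq, rfl⟩)
    have pt : p.t = 0 := by
      have := (k f hf).2.2.2.1
      rw [comm_d, pv, smul_zero, add_zero] at this
      exact (smul_eq_zero.1 this).resolve_right fv
    have l : ∀ q, e q ∈ E → 𝒟.cr q.v p.d = 0 := fun q hq => comm_A_b q pv pt ▸ (swap (k q hq)).2.2.1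
    obtain ⟨c, hc⟩ := h.cr0 a.v p.d (fun k => ab (by rw [k, Fd.cr_comm, Fd.cr_zero])) (l a ha)
    have := l b hb
    rw [hc, Fd.cr_smul, Fd.cr_comm] at this
    rw [hc, (smul_eq_zero.1 this).resolve_right ab, zero_smul]
  have W3 : ∀ s, e s ∈ up E _ (le_normalizer.trans n2) → s.v = 0 := fun s hs => by
    have k : ∀ q, e q ∈ E → s.t • q.v + q.t • s.v = 0 := fun q hq =>
      comm_d s q ▸ W2 _ (map_commutatorElement e s q ▸ hs.2 _ hq)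
    have st : s.t = 0 := by
      by_contra n
      have l : ∀ q, e q ∈ E → q.v = (-(s.t⁻¹ * q.t)) • s.v := fun q hq => by
        rw [neg_smul, mul_smul, ← smul_neg, ← eq_neg_of_add_eq_zero_left (k q hq), inv_smul_smul₀ n]
      exact ab (by rw [l a ha, l b hb, Fd.cr_smul, Fd.cr_comm, Fd.cr_smul, Fd.cr_self, smul_zero, smul_zero])
    have := k f hf
    rw [st, zero_smul, zero_add] at this
    exact (smul_eq_zero.1 this).resolve_left ft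
  refine zl h.toSt hE nZ (norm_up (hC := le_normalizer.trans n2) le_rfl n2) ?_ (fun x hx => hx.1) fun p q hp hq => by
    rw [W3 q hq, Fd.cr_zero]
  rintro _ ⟨s, hs, rfl⟩
  refine ⟨BE ⟨s, hs, rfl⟩, fun y hy => ?_⟩
  obtain ⟨p, rfl⟩ := hE.le hy
  have m := swap (cB hs p)
  refine ⟨BE ⟨_, ⟨m.1, m.2.2⟩, map_commutatorElement e s p⟩, fun y hy => ?_⟩
  obtain ⟨q, rfl⟩ := hE.le hy
  exact ⟨_, swap (cL m q), by simp only [map_commutatorElement]⟩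

end CL.SYU
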