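/-
Project SYU (port of SY) (S1770): for `E ≥ A` outside `Q` and `R` the subgroup `E ⊓ Q` is invariant.
-/
import Cfsg.Agent.SYU.Defs

set_option autoImplicit false

namespace CL.SYU

open CL.SY

open Subgroup Cfsg CL.Even CL.Grp
open scoped commutatorElement

universe u

namespace E2cx

variable {F K : Type} [Field F] [Field K] [Algebra F K] [CharP K 2] {𝒟 : Fd F K}

/-- the first coordinate -/
def φ (𝒟 : Fd F K) : Pt 𝒟 →* Multiplicative K := MonoidHom.mk' (fun p => Multiplicative.ofAdd p.v) fun _ _ => rfl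

theorem comm_Z (p : Pt 𝒟) {z : Pt 𝒟} (hz : z ∈ Pt.Z 𝒟) : ⁅p, z⁆ = 1 := by
  rw [Pt.comm_L p hz.1 hz.2.2.1 hz.2.2.2.1 hz.2.2.2.2, hz.2.1, mul_zero]; rfl

theorem claim (h : 𝒟.LA) (X : Subgroup (Pt 𝒟)) (hc : ∀ x ∈ X, ∀ y ∈ X, ⁅x, y⁆ ∈ Pt.Z 𝒟) (hX : ¬ X ≤ Pt.Q 𝒟) :
    Nat.card X < Nat.card (F × K × F × K) := by
  have := h.finK
  have : Finite F := Finite.of_injective _ (algebraMap F K).injective
  have := 𝒟.charF
  obtain ⟨x, hx, v0⟩ : ∃ x ∈ X, x.v ≠ 0 := by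
    by_contra k
    push Not at k
    exact hX k
  have ht : ∀ y ∈ X, y.v = 0 → y.t = 0 := fun y hy k => by
    have := (hc x hx y hy).2.2.2.1
    rw [Pt.comm_d, k, smul_zero, zero_add] at this
    exact (smul_eq_zero.1 this).resolve_right v0
  have hE : ∀ x ∈ X, ∀ y ∈ X, y.v = 0 → 𝒟.cr x.v y.d = 0 ∧ 𝒟.T (x.v * y.b) = 𝒟.T (𝒟.adj x.v * y.d) :=
    fun x hx y hy k => ⟨by rw [← Pt.comm_A_b x k (ht y hy k)]; exact (hc x hx y hy).2.2.1, by
      have := (hc x hx y hy).2.1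
      rw [Pt.comm_A_a x k (ht y hy k)] at this
      exact CharTwo.add_eq_zero.1 this⟩
  set ψ : X →* Multiplicative K := (φ 𝒟).comp X.subtype with hψ
  have hk : ∀ y : ψ.ker, y.1.1.v = 0 := fun y => y.2
  have e1 : Nat.card ψ.ker * Nat.card ψ.range = Nat.card X := by rw [← index_ker, card_mul_index]
  have hF : 0 < Nat.card F := Nat.card_pos
  have h4 := h.four
  have eK : Nat.card (Multiplicative K) = Nat.card K := rfl
  simp only [Nat.card_prod]
  rw [← e1]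
  by_cases hs : ψ.range = ⊤
  · have z : ∀ y : ψ.ker, y.1.1.b = 0 ∧ y.1.1.d = 0 := fun y => h.zL _ _ fun w => by
      obtain ⟨x', hx'⟩ : Multiplicative.ofAdd w ∈ ψ.range := hs ▸ mem_top _
      have e : x'.1.v = w := hx'
      rw [← e]
      exact hE _ x'.2 _ y.1.2 (hk y)
    have i : Function.Injective fun y : ψ.ker => ((y.1.1.a, y.1.1.c) : F × F) := fun y y' e => by
      simp only [Prod.mk.injEq] at e
      exact Subtype.ext (Subtype.ext (Pt.ext ((hk y).trans (hk y').symm) e.1 ((z y).1.trans (z y').1.symm) e.2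
        ((z y).2.trans (z y').2.symm) ((ht _ y.1.2 (hk y)).trans (ht _ y'.1.2 (hk y')).symm)))
    have l := Nat.card_le_card_of_injective _ i
    rw [Nat.card_prod] at l
    rw [hs, card_top, eK]
    calc Nat.card ψ.ker * Nat.card K ≤ Nat.card F * Nat.card F * Nat.card K := Nat.mul_le_mul_right _ l
      _ = Nat.card F * Nat.card F * Nat.card K * 1 := (mul_one _).symm
      _ < Nat.card F * Nat.card F * Nat.card K * Nat.card K :=
        Nat.mul_lt_mul_of_pos_left (by omega) (by positivity)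
      _ = _ := by ring
  · have N0 : 𝒟.N x.v ≠ 0 := fun e => v0 (h.N0 _ e)
    have i : Function.Injective fun y : ψ.ker => ((y.1.1.a, y.1.1.b, y.1.1.c) : F × K × F) := fun y y' e => by
      simp only [Prod.mk.injEq] at e
      refine Subtype.ext (Subtype.ext (Pt.ext ((hk y).trans (hk y').symm) e.1 e.2.1 e.2.2 ?_
        ((ht _ y.1.2 (hk y)).trans (ht _ y'.1.2 (hk y')).symm)))
      obtain ⟨a1, a2⟩ := hE x hx _ y.1.2 (hk y)
      obtain ⟨b1, b2⟩ := hE x hx _ y'.1.2 (hk y')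
      obtain ⟨c, hc⟩ := h.cr0 _ _ v0 a1
      obtain ⟨c', hc'⟩ := h.cr0 _ _ v0 b1
      rw [hc, mul_smul_comm, map_smul, 𝒟.T_adj, e.2.1, b2, hc', mul_smul_comm, map_smul, 𝒟.T_adj] at a2
      rw [hc, hc', mul_right_cancel₀ N0 a2]
    have l := Nat.card_le_card_of_injective _ i
    simp only [Nat.card_prod] at l
    have l2 : Nat.card ψ.range < Nat.card K := by
      rw [← eK]
      by_contra k
      exact hs (eq_top_of_le_card _ (not_lt.1 k))
    calc Nat.card ψ.ker * Nat.card ψ.range ≤ Nat.card F * (Nat.card K * Nat.card F) * Nat.card ψ.range :=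
          Nat.mul_le_mul_right _ l
      _ < Nat.card F * (Nat.card K * Nat.card F) * Nat.card K :=
        Nat.mul_lt_mul_of_pos_left l2 (by positivity)
      _ = _ := by ring

end E2cx

open E2cx in
theorem e2c : E2c.{u} := by
  intro G _ _ F K _ _ _ _ 𝒟 e h E H hE _ hR hA g hg
  have inj := h.inj
  have : Finite (Pt 𝒟) := Finite.of_injective _ inj
  obtain ⟨f, hf, t0⟩ : ∃ f : Pt 𝒟, e f ∈ E ∧ f.t ≠ 0 := by
    by_contra k
    push Not at k
    refine hR fun x hx => ?_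
    obtain ⟨f, rfl⟩ := hE.le hx
    exact mem_map_of_mem e (k f hx)
  have hZ : ∀ z ∈ gZ e, g * z * g⁻¹ ∈ gZ e := by
    rintro _ ⟨z, hz, rfl⟩
    have zE : e z ∈ E := hA (mem_map_of_mem e ⟨hz.1, hz.2.2.2.2⟩)
    have cE : g * e z * g⁻¹ ∈ E := conj_mem hg zE
    have cc : ∀ y ∈ E, y * (g * e z * g⁻¹) = g * e z * g⁻¹ * y := fun y hy => by
      obtain ⟨p, hp⟩ := hE.le (conj_mem' hg hy)
      have e1 : e p * e z = e z * e p := by
        rw [← map_mul, ← map_mul, commutatorElement_eq_one_iff_mul_comm.1 (comm_Z p hz)]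
      calc y * (g * e z * g⁻¹) = g * (g⁻¹ * y * g * e z) * g⁻¹ := by group
        _ = g * (e z * (g⁻¹ * y * g)) * g⁻¹ := by rw [← hp, e1]
        _ = _ := by group
    have hL : g * e z * g⁻¹ ∈ gL e := h.cA ▸ ⟨hE.le cE, mem_centralizer_iff.2 fun y hy => cc y (hA hy)⟩
    obtain ⟨l, hl, el⟩ := hL
    have e2 : ⁅f, l⁆ = 1 := commutatorElement_eq_one_iff_mul_comm.2 (inj (by
      rw [map_mul, map_mul, el]; exact cc _ hf))
    rw [Pt.comm_L f hl.1 hl.2.1 hl.2.2.1 hl.2.2.2] at e2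
    have e3 : f.t * l.a = 0 := congrArg Pt.c e2
    exact ⟨l, ⟨hl.1, (mul_eq_zero.1 e3).resolve_left t0, hl.2.1, hl.2.2.1, hl.2.2.2⟩, el⟩
  set X : Subgroup (Pt 𝒟) := (cj g (E ⊓ gQ e)).comap e with hX
  have hXQ : X ≤ Pt.Q 𝒟 := by
    by_contra k
    refine absurd (claim h.toSt.toLA X ?_ k) (not_lt.2 ?_)
    · rintro x ⟨_, ⟨-, p, hp, rfl⟩, ex⟩ y ⟨_, ⟨-, q, hq, rfl⟩, ey⟩
      have ex' : g * e p * g⁻¹ = e x := ex
      have ey' : g * e q * g⁻¹ = e y := ey
      have := hZ (e ⁅p, q⁆) (mem_map_of_mem e (by rw [Pt.comm_Q hp hq]; exact ⟨rfl, rfl, rfl, rfl, rfl⟩))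
      rw [map_commutatorElement, conjugate_commutatorElement, ex', ey', ← map_commutatorElement] at this
      exact (mem_map_iff_mem inj).1 this
    · have ex : ∀ w : F × K × F × K, ∃ x : X, e x = g * e ⟨0, w.1, w.2.1, w.2.2.1, w.2.2.2, 0⟩ * g⁻¹ := fun w => by
        have m : e ⟨0, w.1, w.2.1, w.2.2.1, w.2.2.2, 0⟩ ∈ E := hA (mem_map_of_mem e ⟨rfl, rfl⟩)
        obtain ⟨x, hx⟩ := hE.le (conj_mem hg m)
        exact ⟨⟨x, _, ⟨m, mem_map_of_mem e rfl⟩, hx.symm⟩, hx⟩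
      choose j hj using ex
      refine Nat.card_le_card_of_injective j fun w w' k => ?_
      have := hj w
      rw [k, hj w'] at this
      have k2 := inj (mul_left_cancel (mul_right_cancel this))
      simp only [Pt.mk.injEq] at k2
      exact Prod.ext k2.2.1.symm (Prod.ext k2.2.2.1.symm (Prod.ext k2.2.2.2.1.symm k2.2.2.2.2.1.symm))
  refine mem_norm_of_cj_le fun y hy => ?_
  have yE : y ∈ E := by
    obtain ⟨w, hw, rfl⟩ := hy
    exact conj_mem hg hw.1
  obtain ⟨x, rfl⟩ := hE.le yE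
  exact ⟨yE, mem_map_of_mem e (hXQ hy)⟩

end CL.SYU
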