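/-
Project SYU (port of SY) (S1770): an essential subgroup of `R` outside `Q` contains `B`.
-/
import Cfsg.Agent.SYU.Defs
import Cfsg.Agent.Even.CharP

set_option autoImplicit false

namespace CL.SYU

open CL.SY

open Subgroup Cfsg CL.Even CL.Grp Pt
open scoped commutatorElement

universe u

namespace E3ax

variable {F K : Type} [Field F] [Field K] [Algebra F K] [CharP K 2] {𝒟 : Fd F K} {p q s : Pt 𝒟}

theorem cB (p : Pt 𝒟) (hs : s ∈ B 𝒟) : ⁅p, s⁆ ∈ L 𝒟 := ⟨comm_v p s,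
  by rw [comm_A_b p hs.1 hs.2.2, hs.2.1, Fd.cr_zero],
  by rw [comm_d, hs.1, hs.2.2, smul_zero, zero_smul, add_zero], comm_t p s⟩

theorem cL (p : Pt 𝒟) (hs : s ∈ L 𝒟) : ⁅p, s⁆ ∈ Z 𝒟 :=
  comm_L p hs.1 hs.2.1 hs.2.2.1 hs.2.2.2 ▸ ⟨rfl, rfl, rfl, rfl, rfl⟩

theorem cRL (hp : p.t = 0) (hs : s ∈ L 𝒟) : Commute p s := by
  rw [← commutatorElement_eq_one_iff_commute, comm_L p hs.1 hs.2.1 hs.2.2.1 hs.2.2.2, hp, zero_mul]
  rfl

theorem cBB (hs : s ∈ B 𝒟) (hp : p ∈ B 𝒟) : Commute s p := by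
  rw [← commutatorElement_eq_one_iff_commute, comm_Q hs.1 hp.1, hs.2.1, hs.2.2, hp.2.1, hp.2.2]
  simp only [zero_mul, map_zero, add_zero]
  rfl

/-- an involution of `A` commuting with an element outside `Q` -/
theorem inB (h : 𝒟.LA) (pv : p.v ≠ 0) (hc : ⁅p, q⁆ = 1) (h2 : q * q = 1) (qv : q.v = 0) (qt : q.t = 0) :
    q ∈ B 𝒟 := by
  have n : 𝒟.N p.v ≠ 0 := fun k => pv (h.N0 _ k)
  obtain ⟨c, k⟩ := h.cr0 _ _ pv ((comm_A_b p qv qt).symm.trans (congrArg Pt.b hc))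
  have e1 : 𝒟.T (p.v * q.b) + 𝒟.T (𝒟.adj p.v * q.d) = 0 := (comm_A_a p qv qt).symm.trans (congrArg Pt.a hc)
  have e2 : q.t * q.a + 𝒟.T (q.d * q.b) = 0 := congrArg Pt.c ((sq_Q qv).symm.trans h2)
  rw [k, mul_smul_comm, map_smul, Fd.T_adj, smul_eq_mul] at e1
  rw [k, qt, smul_mul_assoc, map_smul, smul_eq_mul, eq_neg_of_add_eq_zero_left e1] at e2
  have : c = 0 := by
    by_contra c0
    exact mul_ne_zero c0 (mul_ne_zero c0 n) (by linear_combination -e2)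
  exact ⟨qv, by rw [k, this, zero_smul], qt⟩

theorem conj4 (d : K) (h4 : p.d = 0) (h5 : p.t = 0) (h2 : p.b = 𝒟.cr p.v d) :
    (x0 p.v)⁻¹ * (x4 d * p * (x4 d)⁻¹) ∈ L 𝒟 := by
  refine ⟨?_, ?_, ?_, 𝒟.inj ?_⟩ <;> simp only [x0, x4, Fd.cr] at h2 ⊢ <;> pt_push <;>
    (try simp only [h4, h5, h2, map_zero]) <;> grind

/-- normal form of an involution of `R` outside `Q` -/
theorem nf (h : 𝒟.LA) (qv : q.v ≠ 0) (qt : q.t = 0) (h2 : q * q = 1) :
    ∃ s, (x0 q.v)⁻¹ * (s * q * s⁻¹) ∈ L 𝒟 := by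
  obtain ⟨c, k⟩ := h.cr0 _ _ qv ((sq_R_b qt).symm.trans (congrArg Pt.b h2))
  have e := conj5 c qt
  have ev : (x5 c * q * (x5 c)⁻¹).v = q.v := by rw [e]
  have et : (x5 c * q * (x5 c)⁻¹).t = 0 := by rw [e]
  have ed : (x5 c * q * (x5 c)⁻¹).d = 0 := by rw [e, k]; exact CharTwo.add_self_eq_zero _
  have e2 := (sq_R_a et).symm.trans (congrArg Pt.a (show _ = 1 by rw [conj_mul, h2, mul_one, mul_inv_cancel]))
  rw [ed, ev, mul_zero, map_zero, add_zero] at e2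
  obtain ⟨d, hd⟩ := h.perp _ _ qv e2
  have := conj4 d ed et (by rw [ev]; exact hd)
  rw [ev] at this
  exact ⟨x4 d * x5 c, by simpa only [mul_inv_rev, mul_assoc] using this⟩

theorem comm0_c {u : K} {c : F} (h4 : p.d = c • u) (h5 : p.t = 0) : ⁅(x0 u : Pt 𝒟), p⁆.c = c ^ 2 * 𝒟.N u :=
  𝒟.inj (by
    simp only [x0]; pt_push; simp only [h4, h5, map_zero, Algebra.smul_def, map_mul, AlgEquiv.commutes]; grind)

theorem d0 (h : 𝒟.LA) {u : K} (hu : u ≠ 0) (h5 : p.t = 0) (hc : ⁅(x0 u : Pt 𝒟), p⁆ = 1) : p.d = 0 := by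
  have e := (comm_R_b (p := x0 u) rfl h5).symm.trans (congrArg Pt.b hc)
  rw [show (x0 u : Pt 𝒟).d = 0 from rfl, Fd.cr_zero, add_zero] at e
  obtain ⟨c, k⟩ := h.cr0 _ _ hu e
  have e2 : c ^ 2 * 𝒟.N u = 0 := (comm0_c k h5).symm.trans (congrArg Pt.c hc)
  rw [k, pow_eq_zero_iff two_ne_zero |>.1 ((mul_eq_zero.1 e2).resolve_right fun k => hu (h.N0 _ k)), zero_smul]

variable {G : Type u} [Group G] {e : Pt 𝒟 →* G}

theorem map_cj (s : Pt 𝒟) {N : Subgroup (Pt 𝒟)} (hN : ∀ p : Pt 𝒟, ∀ n ∈ N, ⁅p, n⁆ ∈ N) :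
    N.map (e.comp (MulAut.conj s).toMonoidHom) = N.map e := by
  have k : ∀ p, ∀ n ∈ N, p * n * p⁻¹ ∈ N := fun p n hn => by
    simpa [commutatorElement_def] using mul_mem (hN p n hn) hn
  ext x
  constructor
  · rintro ⟨n, hn, rfl⟩
    exact ⟨_, k s n hn, rfl⟩
  · rintro ⟨n, hn, rfl⟩
    exact ⟨_, k s⁻¹ n hn, by simp [mul_assoc]⟩

theorem st_cj (h : St2 e) (s : Pt 𝒟) : St2 (e.comp (MulAut.conj s).toMonoidHom) ∧
    gS (e.comp (MulAut.conj s).toMonoidHom) = gS e ∧ gL (e.comp (MulAut.conj s).toMonoidHom) = gL e := by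
  have hS : gS (e.comp (MulAut.conj s).toMonoidHom) = gS e := by
    rw [gS, gS, MonoidHom.range_eq_map, MonoidHom.range_eq_map]
    exact map_cj s fun _ _ _ => mem_top _
  have hQ : gQ (e.comp (MulAut.conj s).toMonoidHom) = gQ e := map_cj s fun p n _ => comm_v p n
  have hR : gR (e.comp (MulAut.conj s).toMonoidHom) = gR e := map_cj s fun p n _ => comm_t p n
  have hA : gA (e.comp (MulAut.conj s).toMonoidHom) = gA e := map_cj s fun p n _ => ⟨comm_v p n, comm_t p n⟩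
  have hB : gB (e.comp (MulAut.conj s).toMonoidHom) = gB e := map_cj s fun p n k => ⟨(cB p k).1, (cB p k).2.2⟩
  have hL : gL (e.comp (MulAut.conj s).toMonoidHom) = gL e := map_cj s fun p n k => ⟨(cL p k).1, (cL p k).2.2⟩
  have hZ : gZ (e.comp (MulAut.conj s).toMonoidHom) = gZ e := map_cj s fun p n k => cL p ⟨k.1, k.2.2⟩
  refine ⟨⟨⟨h.toLA, h.inj.comp (MulAut.conj s).injective⟩, ?_, ?_, ?_, ?_⟩, hS, hL⟩ <;>
    simp only [hS, hQ, hR, hA, hB, hL, hZ]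
  exacts [h.cQ, h.cL, h.cA, h.cB]

end E3ax

open E3ax in
theorem e3a (hx : E3x.{u}) : E3a.{u} := by
  intro G _ _ F K _ _ _ _ 𝒟 e h E H hE nQ hR
  have la := h.toSt.toLA
  have t0 : ∀ {p}, e p ∈ E → p.t = 0 := fun hp => (mem_map_iff_mem h.inj).1 (hR hp)
  obtain ⟨x, hf, k1⟩ := SetLike.not_le_iff_exists.1 nQ
  obtain ⟨f, rfl⟩ := hE.le hf
  have fv : f.v ≠ 0 := fun k => k1 ⟨f, k, rfl⟩
  have nV := norm_le_norm_ozc (p := 2) E
  have LV : ∀ l ∈ L 𝒟, e l ∈ omegaOneCenter 2 E := fun l hl => by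
    have k : ∀ x ∈ E, Commute (e l) x := fun x hx => by
      obtain ⟨p, rfl⟩ := hE.le hx
      exact (cRL (t0 hx) hl).symm.map e
    refine mem_ozc.2 ⟨hE.cen _ ⟨l, rfl⟩ k, mem_centralizer_iff.2 fun x hx => (k x hx).symm.eq, ?_⟩
    rw [pow_two, ← map_mul, sq_Q hl.1, hl.2.2.1, hl.2.2.2, zero_mul, zero_mul, map_zero, add_zero]
    exact map_one e
  by_cases VB : ∀ q, e q ∈ omegaOneCenter 2 E → q ∈ B 𝒟
  · rintro _ ⟨s, hs, rfl⟩
    have k : ∀ x ∈ E, ⁅e s, x⁆ ∈ omegaOneCenter 2 E := fun x hx => by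
      obtain ⟨p, rfl⟩ := hE.le hx
      rw [← commutatorElement_inv, ← map_commutatorElement]
      exact inv_mem (LV _ (cB p hs))
    refine hE.chain nV nV nV nV ⟨s, rfl⟩ (mem_normalizer_fintype fun x hx => ?_) (fun x hx m => ?_)
      (fun x hx _ => k x hx) (fun x hx _ => k x hx) (fun x hx _ => k x hx) k
    · simpa [commutatorElement_def] using mul_mem (ozc_le E (k x hx)) hx
    · obtain ⟨p, rfl⟩ := hE.le hx
      exact (cBB hs (VB p m)).map e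
  push Not at VB
  obtain ⟨q, hq, qB⟩ := VB
  have qt := t0 (ozc_le E hq)
  have q2 : q * q = 1 := h.inj (by rw [map_mul, map_one, ← pow_two, (mem_ozc.1 hq).2.2])
  have qv : q.v ≠ 0 := fun k => qB (inB la fv (h.inj (by
    rw [map_commutatorElement, map_one]
    exact commutatorElement_eq_one_iff_mul_comm.2 (comm_of_mem (mem_ozc.1 hq).2.1 hf))) q2 k qt)
  obtain ⟨s, hs⟩ := nf la qv qt q2
  obtain ⟨h', eS, eL⟩ := st_cj h s⁻¹
  set e' := e.comp (MulAut.conj s⁻¹).toMonoidHom with he'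
  have LV' : gL e' ≤ omegaOneCenter 2 E := by
    rw [eL]; rintro _ ⟨l, hl, rfl⟩; exact LV l hl
  have xV : e' (x0 q.v) ∈ omegaOneCenter 2 E := by
    have k := LV' (mem_map_of_mem e' hs)
    rw [map_mul, map_inv, show e' (s * q * s⁻¹) = e q by simp [he', mul_assoc]] at k
    exact inv_mem_iff.1 ((mul_mem_cancel_right hq).1 k)
  have xc : ∀ y ∈ E, Commute (e' (x0 q.v)) y := fun y hy => (comm_of_mem (mem_ozc.1 xV).2.1 hy).symm
  refine (hx G F K 𝒟 e' h' E H q.v (eS ▸ hE) (fun g hg => ?_) (LV'.trans (ozc_le E)) qv (ozc_le E xV) xc).elim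
  obtain ⟨p, rfl⟩ : g ∈ gS e' := eS ▸ hE.le hg
  have pt : p.t = 0 := by
    have := 𝒟.charF
    have := t0 (p := s⁻¹ * p * s⁻¹⁻¹) hg
    rwa [mul_t, mul_t, inv_inv, inv_t, add_right_comm, CharTwo.add_self_eq_zero (R := F), zero_add] at this
  exact ⟨p, d0 la qv pt (h'.inj (by
    rw [map_commutatorElement, map_one]; exact commutatorElement_eq_one_iff_commute.2 (xc _ hg))), pt, rfl⟩

end CL.SYU
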