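/-
Project SYU (port of SY): the centre of an essential subgroup between `B` and `R` lies in `L`.
-/
import Cfsg.Agent.SYU.Defs

set_option autoImplicit false

namespace CL.SYU

open CL.SY

open Subgroup Cfsg CL.Even CL.Grp
open scoped commutatorElement

universe u

namespace E3bx

variable {F K : Type} [Field F] [Field K] [Algebra F K] [CharP K 2] {𝒟 : Fd F K}

theorem comm_RB' {p q : Pt 𝒟} (hp : p.t = 0) (hq : q ∈ Pt.B 𝒟) :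
    ⁅p, q⁆ = ⟨0, 𝒟.T (p.v * q.b), 0, 𝒟.T (p.d * q.b), 0, 0⟩ := by
  rw [Pt.comm_RB hp hq.1 hq.2.1 hq.2.2]
  generalize 𝒟.T (p.v * q.b) = a
  generalize 𝒟.T (p.d * q.b) = c
  apply Pt.ext2 <;> simp only [Pt.x1, Pt.x3] <;> pt_push <;> grind

theorem comm_B {p q : Pt 𝒟} (hp : p.t = 0) (hq : q.t = 0) : ⁅p, q⁆ ∈ Pt.B 𝒟 :=
  ⟨Pt.comm_v p q, by rw [Pt.comm_d, hp, hq]; simp, Pt.comm_t p q⟩

theorem det (h : 𝒟.LA) {b y₁ y₂ y₃ : K} (hb : b ≠ 0) (h1 : 𝒟.T (y₁ * b) = 0) (h2 : 𝒟.T (y₂ * b) = 0)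
    (h3 : 𝒟.T (y₃ * b) = 0) : 𝒟.T (y₃ * 𝒟.cr y₁ y₂) = 0 := by
  by_cases k : 𝒟.cr y₁ y₂ = 0
  · rw [k, mul_zero, map_zero]
  obtain ⟨c, rfl⟩ := h.perp2 _ _ _ k h1 h2
  rw [mul_smul_comm, map_smul, smul_eq_mul] at h3
  exact (mul_eq_zero.1 h3).resolve_left fun e => hb (by rw [e, zero_smul])

variable {G : Type u} [Group G]

theorem comm_iff {V : Subgroup G} {w z τ t' : G} (hw : w ∈ 𝒩(V)) (hz : Commute w z) (ht : t' ∈ 𝒩(V))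
    (hc : w * τ * w⁻¹ * t'⁻¹ ∈ 𝒞(V)) : (∃ m ∈ V, z = ⁅τ, m⁆) ↔ ∃ m ∈ V, z = ⁅t', m⁆ := by
  have k : ∀ m ∈ V, w * ⁅τ, m⁆ * w⁻¹ = ⁅t', w * m * w⁻¹⁆ := fun m hm => by
    have := conj_eq_of_mem hc (conj_mem ht (conj_mem hw hm))
    simp only [commutatorElement_def]
    rw [← this]
    group
  have hz' : w * z * w⁻¹ = z := by rw [hz.eq, mul_inv_cancel_right]
  constructor
  · rintro ⟨m, hm, r⟩
    exact ⟨_, conj_mem hw hm, by rw [← k m hm, ← r, hz']⟩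
  · rintro ⟨m, hm, r⟩
    refine ⟨_, conj_mem' hw hm, ?_⟩
    have := k _ (conj_mem' hw hm)
    rw [show w * (w⁻¹ * m * w) * w⁻¹ = m by group, ← r] at this
    exact mul_left_cancel (mul_right_cancel (hz'.trans this.symm))

variable [Finite G] {e : Pt 𝒟 →* G} {E H : Subgroup G}

/-- the `b`-coordinates of the centre -/
def Bb (e : Pt 𝒟 →* G) (E : Subgroup G) (b : K) : Prop := ∀ p, e p ∈ E → 𝒟.T (p.v * b) = 0 ∧ 𝒟.T (p.d * b) = 0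

structure Cx (e : Pt 𝒟 →* G) (E H : Subgroup G) : Prop where
  st : St2 e
  es : EssT (gS e) E H
  hR : E ≤ gR e
  hB : gB e ≤ E

namespace Cx

variable (h : Cx e E H)
include h

omit [Finite G] in
theorem t0 {p : Pt 𝒟} (hp : e p ∈ E) : p.t = 0 := (mem_map_iff_mem h.st.inj).1 (h.hR hp)

omit [Finite G] in
theorem mB {p : Pt 𝒟} (hp : p ∈ Pt.B 𝒟) : e p ∈ E := h.hB (mem_map_of_mem e hp)

omit [Finite G] in
theorem exE {x : G} (hx : x ∈ E) : ∃ p, e p = x := (h.es.le hx :)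

omit [Finite G] in
theorem mV {m : Pt 𝒟} (hm : m ∈ Pt.B 𝒟) (hb : Bb e E m.b) : e m ∈ E ⊓ 𝒞(E) := ⟨h.mB hm, fun x hx => by
  obtain ⟨p, rfl⟩ := h.exE hx
  rw [← map_mul, ← map_mul, commutatorElement_eq_one_iff_mul_comm.1 (by
    rw [comm_RB' (h.t0 hx) hm, (hb p hx).1, (hb p hx).2]; rfl)]⟩

omit [Finite G] in
theorem exV {x : G} (hx : x ∈ E ⊓ 𝒞(E)) : ∃ m ∈ Pt.B 𝒟, Bb e E m.b ∧ e m = x := by
  have : x ∈ gB e := h.st.cB ▸ ⟨h.es.le hx.1, cent_mono h.hB hx.2⟩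
  obtain ⟨m, hm, rfl⟩ := this
  refine ⟨m, hm, fun p hp => ?_, rfl⟩
  have k := hx.2 _ hp
  rw [← map_mul, ← map_mul] at k
  have k2 := commutatorElement_eq_one_iff_mul_comm.2 (h.st.inj k)
  rw [comm_RB' (h.t0 hp) hm] at k2
  exact ⟨congrArg Pt.a k2, congrArg Pt.c k2⟩

theorem nR {s : Pt 𝒟} (hs : s.t = 0) : e s ∈ 𝒩(E) := mem_norm_of_cj_le (by
  rintro _ ⟨x, hx, rfl⟩
  obtain ⟨p, rfl⟩ := h.exE hx
  have := mul_mem (h.mB (comm_B hs (h.t0 hx))) hx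
  simpa [commutatorElement_def] using this)

omit [Finite G] in
theorem nV : 𝒩(E) ≤ 𝒩(E ⊓ 𝒞(E)) := le_norm_inf le_rfl (norm_le_norm_cent E)

omit [Finite G] in
theorem cL {s : Pt 𝒟} (hs : s.t = 0) {x : G} (hx : x ∈ gL e) : Commute (e s) x := by
  have : e s ∈ gS e ⊓ 𝒞(gL e) := h.st.cL ▸ mem_map_of_mem e hs
  exact (this.2 x hx).symm

theorem mM {b : K} (hb : b ≠ 0) (hb' : Bb e E b) {s : Pt 𝒟} (hs : s.t = 0)
    (h1 : ∀ b, Bb e E b → 𝒟.T (s.v * b) = 0 ∧ 𝒟.T (s.d * b) = 0) : e s ∈ E := by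
  have k : ∀ x ∈ E, ⁅e s, x⁆ ∈ E ⊓ 𝒞(E) := fun x hx => by
    obtain ⟨p, rfl⟩ := h.exE hx
    rw [← map_commutatorElement]
    refine h.mV (comm_B hs (h.t0 hx)) fun p' hp' => ?_
    have d := fun {y₁ y₂ y₃} => det (y₁ := y₁) (y₂ := y₂) (y₃ := y₃) h.st.toLA hb
    rw [Pt.comm_R_b hs (h.t0 hx), mul_add, mul_add, map_add, map_add,
      d (h1 b hb').1 (hb' p hx).2 (hb' p' hp').1, d (hb' p hx).1 (h1 b hb').2 (hb' p' hp').1,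
      d (h1 b hb').1 (hb' p hx).2 (hb' p' hp').2, d (hb' p hx).1 (h1 b hb').2 (hb' p' hp').2]
    simp
  refine h.es.chain h.nV h.nV h.nV h.nV ⟨s, rfl⟩ (h.nR hs) (fun x _ hx => ?_) (fun x hx _ => k x hx)
    (fun x hx _ => k x hx) (fun x hx _ => k x hx) k
  obtain ⟨m, hm, hm', rfl⟩ := h.exV hx
  refine Commute.map (commutatorElement_eq_one_iff_commute.1 ?_) e
  rw [comm_RB' hs hm, (h1 _ hm').1, (h1 _ hm').2]
  rfl

theorem caseA (hQ : ¬ E ≤ gQ e) {b b₁ : K} (hb : b ≠ 0) (hb' : Bb e E b) (hb₁ : Bb e E b₁)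
    (hu : 𝒟.cr b b₁ ≠ 0) : False := by
  have la := h.st.toLA
  obtain ⟨u, eu⟩ : ∃ u, 𝒟.cr b b₁ = u := ⟨_, rfl⟩
  have k1 : ∀ p, e p ∈ E → (∃ c : F, p.v = c • u) ∧ ∃ c : F, p.d = c • u := fun p hp => eu ▸
    ⟨la.perp2 _ _ _ hu (mul_comm b _ ▸ (hb' p hp).1) (mul_comm b₁ _ ▸ (hb₁ p hp).1),
      la.perp2 _ _ _ hu (mul_comm b _ ▸ (hb' p hp).2) (mul_comm b₁ _ ▸ (hb₁ p hp).2)⟩
  rw [eu] at hu
  obtain ⟨x, hx, hxQ⟩ := SetLike.not_le_iff_exists.1 hQ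
  obtain ⟨f, rfl⟩ := h.exE hx
  obtain ⟨c, hc⟩ := (k1 f hx).1
  have k2 : ∀ b, Bb e E b → 𝒟.T (u * b) = 0 := fun b' k => by
    have := (k f hx).1
    rw [hc, smul_mul_assoc, map_smul, smul_eq_mul] at this
    exact (mul_eq_zero.1 this).resolve_left fun e0 => hxQ (mem_map_of_mem e
      (show f.v = 0 by rw [hc, e0, zero_smul]))
  have cru : ∀ c c' : F, 𝒟.cr (c • u) (c' • u) = 0 := fun c c' => by
    rw [Fd.cr_smul, Fd.cr_comm, Fd.cr_smul, Fd.cr_self]; simp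
  have k3 : ⁅E, E⁆ ≤ gL e := commutator_le.2 fun x hx y hy => by
    obtain ⟨p, rfl⟩ := h.exE hx
    obtain ⟨q, rfl⟩ := h.exE hy
    rw [← map_commutatorElement]
    have m := comm_B (h.t0 hx) (h.t0 hy)
    refine mem_map_of_mem e ⟨m.1, ?_, m.2⟩
    obtain ⟨⟨c1, e1⟩, c2, e2⟩ := k1 p hx
    obtain ⟨⟨c3, e3⟩, c4, e4⟩ := k1 q hy
    rw [Pt.comm_R_b (h.t0 hx) (h.t0 hy), e1, e2, e3, e4, cru, cru, add_zero]
  have k4 : ∀ a c : F, e ⟨0, a, 0, c, 0, 0⟩ ∈ ⁅E, E⁆ := fun a c => by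
    obtain ⟨y, hy⟩ := la.surj u hu a
    obtain ⟨y', hy'⟩ := la.surj u hu c
    have m0 : e (Pt.x0 u) ∈ E := h.mM hb hb' rfl fun b' k => ⟨k2 b' k, by simp [Pt.x0]⟩
    have m4 : e (Pt.x4 u) ∈ E := h.mM hb hb' rfl fun b' k => ⟨by simp [Pt.x4], k2 b' k⟩
    have m2 : ∀ y, Pt.x2 y ∈ Pt.B 𝒟 := fun y => ⟨rfl, rfl, rfl⟩
    have := mul_mem (commutator_mem_commutator m0 (h.mB (m2 y))) (commutator_mem_commutator m4 (h.mB (m2 y')))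
    rw [← map_commutatorElement, ← map_commutatorElement, ← map_mul, comm_RB' rfl (m2 y),
      comm_RB' rfl (m2 y')] at this
    simp only [Pt.x0, Pt.x2, Pt.x4, hy, hy', zero_mul, map_zero] at this
    convert this using 2
    apply Pt.ext2 <;> pt_push <;> grind
  obtain ⟨d, hd⟩ := la.surj b hb 1
  have k5 : ∀ x ∈ E, ⁅e (Pt.x4 d), x⁆ ∈ E ⊓ 𝒞(E) := fun x hx => by
    obtain ⟨p, rfl⟩ := h.exE hx
    rw [← map_commutatorElement]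
    refine h.mV (comm_B rfl (h.t0 hx)) fun p' hp' => ?_
    obtain ⟨⟨c1, e1⟩, -⟩ := k1 p hx
    obtain ⟨⟨c3, e3⟩, c4, e4⟩ := k1 p' hp'
    have k : ∀ c' : F, 𝒟.T (c' • u * (𝒟.cr 0 p.d + 𝒟.cr (c1 • u) d)) = 0 := fun c' => by
      rw [𝒟.cr_comm 0, Fd.cr_zero, zero_add, Fd.cr_comm, Fd.cr_smul, Fd.cr_comm, smul_mul_assoc, mul_smul_comm,
        map_smul, map_smul, Fd.T_cr_self]
      simp
    rw [Pt.comm_R_b rfl (h.t0 hx), e1, e3, e4]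
    exact ⟨k _, k _⟩
  have k6 : e (Pt.x4 d) ∈ E := by
    refine h.es.chain (le_norm_commutator le_rfl le_rfl) h.nV h.nV h.nV ⟨_, rfl⟩ (h.nR rfl)
      (fun x _ hx => h.cL rfl (k3 hx)) (fun x _ hx => ?_) (fun x hx _ => k5 x hx) (fun x hx _ => k5 x hx) k5
    obtain ⟨m, hm, -, rfl⟩ := h.exV hx
    rw [← map_commutatorElement, comm_RB' rfl hm]
    exact k4 _ _
  have k7 := (hb' _ k6).2
  rw [show (Pt.x4 d : Pt 𝒟).d = d from rfl, mul_comm, hd] at k7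
  exact one_ne_zero k7

theorem exz {b : K} (hb' : Bb e E b) (hl : ∀ b₁, Bb e E b₁ → ∃ c : F, b₁ = c • b) {g : G} (hg : g ∈ 𝒩(E)) :
    ∃ z ∈ gL e, z ≠ 1 ∧ g⁻¹ * z * g ∈ gL e := by
  have := h.st.finK
  have : Finite F := Finite.of_injective _ (algebraMap F K).injective
  by_contra hn
  have dj : Disjoint (gL e) (cj g (gL e)) := disjoint_def.2 fun {z} h1 h2 => by
    by_contra h3
    exact hn ⟨z, h1, h3, mem_cj.1 h2⟩
  have LV : gL e ≤ E ⊓ 𝒞(E) := by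
    rintro _ ⟨m, hm, rfl⟩
    exact h.mV ⟨hm.1, hm.2.2⟩ fun p _ => by rw [hm.2.1]; simp
  have c1 : Nat.card (F × F) ≤ Nat.card (gL e) := Nat.card_le_card_of_injective
    (fun x => ⟨e ⟨0, x.1, 0, x.2, 0, 0⟩, mem_map_of_mem e ⟨rfl, rfl, rfl, rfl⟩⟩) fun x y k => by
      have := h.st.inj (congrArg Subtype.val k)
      exact Prod.ext (congrArg Pt.a this) (congrArg Pt.c this)
  have c2 : Nat.card (gL e × cj g (gL e)) ≤ Nat.card (E ⊓ 𝒞(E) : Subgroup G) := Nat.card_le_card_of_injective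
    (fun x => ⟨x.1 * x.2, mul_mem (LV x.1.2) (cj_le_of_le LV (h.nV hg) x.2.2)⟩) fun x y k =>
      mul_injective_of_disjoint dj (congrArg Subtype.val k)
  have c3 : Nat.card (E ⊓ 𝒞(E) : Subgroup G) ≤ Nat.card (F × F × F) := Nat.card_le_card_of_surjective
    (fun x => ⟨e ⟨0, x.1, x.2.1 • b, x.2.2, 0, 0⟩, h.mV ⟨rfl, rfl, rfl⟩ fun p hp => by
      simp [(hb' p hp).1, (hb' p hp).2]⟩) fun x => by
      obtain ⟨m, hm, hm', r⟩ := h.exV x.2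
      obtain ⟨c, hc⟩ := hl _ hm'
      exact ⟨(m.a, c, m.c), Subtype.ext (r ▸ congrArg e
        (Pt.ext hm.1.symm rfl hc.symm rfl hm.2.1.symm hm.2.2.symm))⟩
  simp only [Nat.card_prod, card_cj] at c1 c2 c3
  have c4 : 1 < Nat.card F := Finite.one_lt_card
  have c5 := (Nat.mul_le_mul c1 c1).trans (c2.trans c3)
  rw [mul_assoc, ← mul_one (Nat.card F * (Nat.card F * Nat.card F)), mul_assoc, mul_assoc] at c5
  have c6 := Nat.le_of_mul_le_mul_left (Nat.le_of_mul_le_mul_left (Nat.le_of_mul_le_mul_left c5 (by omega))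
    (by omega)) (by omega)
  omega

theorem caseB {b : K} (hb : b ≠ 0) (hb' : Bb e E b) (hl : ∀ b₁, Bb e E b₁ → ∃ c : F, b₁ = c • b) : False := by
  have la := h.st.toLA
  obtain ⟨g, hg, hgH⟩ := h.es.ne
  obtain ⟨z, hz, hz1, hz'⟩ := h.exz hb' hl hg
  have iv : ∀ t : Pt 𝒟, t.t = 0 → ¬ (𝒟.T (t.v * b) = 0 ∧ 𝒟.T (t.d * b) = 0) → Iv (gS e) E (e t) := fun t ht k =>
    ⟨⟨t, rfl⟩, h.nR ht, fun m => k (hb' t m), by
      rw [← map_mul]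
      exact h.mB ⟨Pt.sq_v t, by rw [Pt.sq_d, ht, zero_smul], Pt.sq_t t⟩⟩
  obtain ⟨y, hy⟩ := la.surj b hb 1
  rw [mul_comm] at hy
  have i0 := iv (Pt.x0 y) rfl fun k => one_ne_zero (hy.symm.trans k.1)
  have i4 := iv (Pt.x4 y) rfl fun k => one_ne_zero (hy.symm.trans k.2)
  have n' : g * e (Pt.x0 y) * g⁻¹ ∈ 𝒩(E) := mul_mem (mul_mem hg i0.norm) (inv_mem hg)
  have key : ∀ t : Pt 𝒟, t.t = 0 → Iv (gS e) E (e t) →
      ((∃ m ∈ E ⊓ 𝒞(E), z = ⁅e t, m⁆) ↔ ∃ m ∈ E ⊓ 𝒞(E), z = ⁅g * e (Pt.x0 y) * g⁻¹, m⁆) := fun t ht i => by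
    obtain ⟨-, w, hw, k⟩ := h.es.od hg hgH i i0
    have k1 : closure ({e t, g * e (Pt.x0 y) * g⁻¹} : Set G) ≤ 𝒩(E) ⊓ centralizer {z} := by
      rw [closure_le]
      rintro _ (rfl | rfl)
      · exact ⟨i.norm, mem_centralizer_singleton_iff.2 (h.cL ht hz).eq⟩
      · refine ⟨n', mem_centralizer_singleton_iff.2 ?_⟩
        have := (h.cL (s := Pt.x0 y) rfl hz').eq
        calc g * e (Pt.x0 y) * g⁻¹ * z = g * (e (Pt.x0 y) * (g⁻¹ * z * g)) * g⁻¹ := by group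
          _ = _ := by rw [this]; group
    exact comm_iff (h.nV (k1 hw).1) (mem_centralizer_singleton_iff.1 (k1 hw).2) (h.nV n')
      (sup_le_cent inf_le_left inf_le_right k)
  obtain ⟨l, hl', rfl⟩ := hz
  obtain ⟨v, hv⟩ := la.surj b hb l.a
  obtain ⟨d, hd⟩ := la.surj b hb l.c
  rw [mul_comm] at hv hd
  have el : l = ⟨0, l.a, 0, l.c, 0, 0⟩ := Pt.ext hl'.1 rfl hl'.2.1 rfl hl'.2.2.1 hl'.2.2.2
  have ne : ¬ (l.a = 0 ∧ l.c = 0) := fun k => hz1 (by rw [el, k.1, k.2]; exact map_one e)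
  have p0 := (key ⟨v, 0, 0, 0, d, 0⟩ rfl (iv _ rfl (by rwa [hv, hd]))).1
    ⟨e (Pt.x2 b), h.mV ⟨rfl, rfl, rfl⟩ hb', by
      rw [← map_commutatorElement, comm_RB' rfl ⟨rfl, rfl, rfl⟩]
      simp only [Pt.x2, hv, hd]
      rw [← el]⟩
  obtain ⟨_, hm, r⟩ := (key _ rfl i0).2 p0
  obtain ⟨m, m1, -, rfl⟩ := h.exV hm
  obtain ⟨_, hm', r'⟩ := (key _ rfl i4).2 p0
  obtain ⟨m', m1', -, rfl⟩ := h.exV hm'
  rw [← map_commutatorElement, comm_RB' rfl m1] at r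
  rw [← map_commutatorElement, comm_RB' rfl m1'] at r'
  refine ne ⟨(congrArg Pt.a (h.st.inj r')).trans ?_, (congrArg Pt.c (h.st.inj r)).trans ?_⟩ <;>
    simp [Pt.x0, Pt.x4]

end Cx

end E3bx

theorem e3b : E3b.{u} := by
  intro G _ _ F K _ _ _ _ 𝒟 e h E H hE hQ hR hB x hx hc
  have c : E3bx.Cx e E H := ⟨h, hE, hR, hB⟩
  obtain ⟨m, hm, hm', rfl⟩ := c.exV ⟨hx, fun y hy => (hc y hy).eq.symm⟩
  refine mem_map_of_mem e ⟨hm.1, ?_, hm.2⟩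
  by_contra hb
  refine c.caseB hb hm' fun b₁ h₁ => h.cr0 _ _ hb ?_
  by_contra hu
  exact c.caseA hQ hb hm' h₁ hu

end CL.SYU
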