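/-
Project SYU (port of SY) (S1770), step E3c: an essential subgroup `B ≤ E ≤ R` with centre `L` is `R` or a conjugate of `B X₀`.
-/
import Cfsg.Agent.SYU.Defs

set_option autoImplicit false

namespace CL.SYU

open CL.SY

open Subgroup Cfsg CL.Even CL.Grp
open scoped commutatorElement

universe u

namespace E3cx

variable {F K : Type} [Field F] [Field K] [Algebra F K] [CharP K 2] {𝒟 : Fd F K}

omit [CharP K 2] in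
theorem smul0 {c : F} {x : K} (hc : c ≠ 0) (h : algebraMap F K c * x = 0) : x = 0 :=
  (mul_eq_zero.1 h).resolve_left ((map_ne_zero _).2 hc)

/-- the second centre of `E` modulo `B` is a multiple of one vector, or `E / B` lies in a line -/
theorem la (h : 𝒟.LA) (P : Pt 𝒟 → Prop)
    (span : ∀ b, (∀ x, P x → 𝒟.T (x.v * b) = 0 ∧ 𝒟.T (x.d * b) = 0) → b = 0) :
    (∃ u : K, ∀ w, P w → (∀ x, P x → 𝒟.cr w.v x.d + 𝒟.cr x.v w.d = 0) →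
      (∃ α : F, w.v = α • u) ∧ ∃ β : F, w.d = β • u) ∨
    ∃ p₁ p₂ : F, (p₁ ≠ 0 ∨ p₂ ≠ 0) ∧ ∀ x, P x → p₁ • x.d + p₂ • x.v = 0 := by
  have c0 : ∀ w : Pt 𝒟, (∀ x, P x → 𝒟.cr w.v x.d + 𝒟.cr x.v w.d = 0) → 𝒟.cr w.v w.d = 0 := fun w hw =>
    span _ fun x hx => by
      have e := CharTwo.add_eq_zero.1 (hw x hx)
      exact ⟨by rw [𝒟.T_cr, ← e, 𝒟.T_cr_self], by
        rw [𝒟.cr_comm, 𝒟.T_cr, 𝒟.cr_comm x.d, e, 𝒟.cr_comm, 𝒟.T_cr_self]⟩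
  by_cases h0 : ∀ w : Pt 𝒟, (∀ x, P x → 𝒟.cr w.v x.d + 𝒟.cr x.v w.d = 0) → w.v = 0 ∧ w.d = 0
  · exact .inl ⟨0, fun w _ hw => ⟨⟨0, by rw [(h0 w hw).1, smul_zero]⟩, 0, by rw [(h0 w hw).2, smul_zero]⟩⟩
  push Not at h0
  obtain ⟨w, hw, hne⟩ := h0
  obtain ⟨u, p₁, p₂, hu, hp, e1, e2⟩ : ∃ (u : K) (p₁ p₂ : F), u ≠ 0 ∧ (p₁ ≠ 0 ∨ p₂ ≠ 0) ∧ w.v = p₁ • u ∧
      w.d = p₂ • u := by
    by_cases hv : w.v = 0
    · exact ⟨w.d, 0, 1, hne hv, .inr one_ne_zero, by rw [hv, zero_smul], (one_smul _ _).symm⟩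
    · obtain ⟨c, hc⟩ := h.cr0 _ _ hv (c0 w hw)
      exact ⟨w.v, 1, c, hv, .inl one_ne_zero, (one_smul _ _).symm, hc⟩
  have l : ∀ x, P x → ∃ c : F, p₁ • x.d + p₂ • x.v = c • u := fun x hx => h.cr0 _ _ hu (by
    have k := hw x hx
    rw [e1, e2] at k
    revert k; pt_push; grind)
  by_cases hl : ∀ x, P x → p₁ • x.d + p₂ • x.v = 0
  · exact .inr ⟨p₁, p₂, hp, hl⟩
  push Not at hl
  obtain ⟨x, hx, hn⟩ := hl
  obtain ⟨c, hc⟩ := l x hx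
  have hc0 : c ≠ 0 := by rintro rfl; exact hn (by rw [hc, zero_smul])
  refine .inl ⟨u, fun y hy k => ?_⟩
  obtain ⟨c', hc'⟩ := l y hy
  have k1 := c0 y k
  have k2 := k x hx
  have s : ∀ {a b : K}, a = b → 𝒟.σ a = 𝒟.σ b := congrArg 𝒟.σ
  by_cases h' : c' = 0
  · rw [h', zero_smul] at hc'
    have a1 := s hc
    have a2 := s a1
    have b1 := s hc'
    have b2 := s b1
    refine ⟨h.cr0 _ _ hu (smul0 hc0 ?_), h.cr0 _ _ hu (smul0 hc0 ?_)⟩ <;> revert k2 a1 a2 b1 b2 <;> pt_push <;> grind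
  · have b1 := s hc'
    have b2 := s b1
    refine ⟨h.cr0 _ _ hu (smul0 h' ?_), h.cr0 _ _ hu (smul0 h' ?_)⟩ <;> revert k1 b1 b2 <;> pt_push <;> grind

theorem cB {p q : Pt 𝒟} (hp : p.t = 0) (hq : q.t = 0) : ⁅p, q⁆ ∈ Pt.B 𝒟 :=
  ⟨Pt.comm_v p q, by rw [Pt.comm_d, hp, hq, zero_smul, zero_smul, add_zero], Pt.comm_t p q⟩

theorem cL {p q : Pt 𝒟} (hp : p.t = 0) (hq : q.t = 0) :
    ⁅p, q⁆ ∈ Pt.L 𝒟 ↔ 𝒟.cr p.v q.d + 𝒟.cr q.v p.d = 0 := by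
  rw [← Pt.comm_R_b hp hq]
  exact ⟨fun h => h.2.1, fun h => ⟨(cB hp hq).1, h, (cB hp hq).2⟩⟩

theorem cLB {p q : Pt 𝒟} (hp : p.t = 0) (hq : q ∈ Pt.B 𝒟) : ⁅p, q⁆ ∈ Pt.L 𝒟 :=
  (cL hp hq.2.2).2 (by rw [hq.1, hq.2.1, 𝒟.cr_zero, 𝒟.cr_comm, 𝒟.cr_zero, add_zero])

theorem cm {p q : Pt 𝒟} (hp : p.t = 0) (hq : q ∈ Pt.B 𝒟) (h1 : 𝒟.T (p.v * q.b) = 0) (h2 : 𝒟.T (p.d * q.b) = 0) :
    Commute p q := by
  rw [← commutatorElement_eq_one_iff_commute, Pt.comm_RB hp hq.1 hq.2.1 hq.2.2, h1, h2]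
  exact mul_one 1

theorem cmL {p q : Pt 𝒟} (hp : p.t = 0) (hq : q ∈ Pt.L 𝒟) : Commute p q :=
  cm hp ⟨hq.1, hq.2.2⟩ (by rw [hq.2.1, mul_zero, map_zero]) (by rw [hq.2.1, mul_zero, map_zero])

variable {G : Type u} [Group G] [Finite G] {e : Pt 𝒟 →* G} {E H : Subgroup G}

/-- the chain `E ≥ W ≥ Z(W) ≥ L ≥ 1` -/
theorem ch (h : St2 e) (hE : EssT (gS e) E H) (hR : E ≤ gR e) (hB : gB e ≤ E)
    (hZ : ∀ x ∈ E, (∀ y ∈ E, Commute x y) → x ∈ gL e) {s : Pt 𝒟} (hs : s.t = 0)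
    (k : ∀ w w' : Pt 𝒟, e w ∈ E → e w' ∈ E → (∀ x, e x ∈ E → 𝒟.cr w.v x.d + 𝒟.cr x.v w.d = 0) →
      (∀ x, e x ∈ E → 𝒟.cr w'.v x.d + 𝒟.cr x.v w'.d = 0) →
      𝒟.T (w'.v * (𝒟.cr s.v w.d + 𝒟.cr w.v s.d)) = 0 ∧ 𝒟.T (w'.d * (𝒟.cr s.v w.d + 𝒟.cr w.v s.d)) = 0) :
    e s ∈ E := by
  have t0 : ∀ x, e x ∈ E → x.t = 0 := fun x hx => (mem_map_iff_mem h.inj).1 (hR hx)
  have cL' : ∀ x ∈ gL e, ∀ p : Pt 𝒟, p.t = 0 → Commute (e p) x := by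
    rintro _ ⟨q, hq, rfl⟩ p hp
    exact (cmL hp hq).map e
  have eL : gL e = E ⊓ 𝒞(E) := by
    refine le_antisymm (fun x hx => ⟨hB (map_mono (show Pt.L 𝒟 ≤ Pt.B 𝒟 from fun q hq => ⟨hq.1, hq.2.2⟩) hx), fun y hy => ?_⟩)
      fun x hx => hZ x hx.1 fun y hy => (hx.2 y hy).symm
    obtain ⟨p, hp, rfl⟩ := hR hy
    exact cL' x hx p hp
  have nL : 𝒩(E) ≤ 𝒩(gL e) := eL ▸ le_norm_inf le_rfl (le_norm_cent le_rfl)
  have nW : 𝒩(E) ≤ 𝒩(up E (gL e) (le_normalizer.trans nL)) := norm_up le_rfl nL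
  have bW : gB e ≤ up E (gL e) (le_normalizer.trans nL) := by
    rintro _ ⟨q, hq, rfl⟩
    refine ⟨hB ⟨q, hq, rfl⟩, fun y hy => ?_⟩
    obtain ⟨p, hp, rfl⟩ := hR hy
    rw [← commutatorElement_inv, ← map_commutatorElement]
    exact inv_mem ⟨_, cLB hp hq, rfl⟩
  have sB : ∀ x ∈ E, ⁅e s, x⁆ ∈ gB e := fun x hx => by
    obtain ⟨p, hp, rfl⟩ := hR hx
    exact ⟨_, cB hs hp, map_commutatorElement _ _ _⟩
  have co : ∀ w, e w ∈ up E (gL e) (le_normalizer.trans nL) → ∀ x, e x ∈ E → 𝒟.cr w.v x.d + 𝒟.cr x.v w.d = 0 :=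
    fun w hw x hx => (cL (t0 w hw.1) (t0 x hx)).1
      ((mem_map_iff_mem h.inj).1 (map_commutatorElement e w x ▸ hw.2 _ hx))
  refine hE.chain nL (le_norm_inf nW (le_norm_cent nW)) nW nW ⟨s, rfl⟩ (mem_normalizer_fintype fun x hx => ?_)
    (fun x _ hx => cL' x hx s hs) (fun x hx hY => ?_) (fun x hx hW => ⟨bW (sB x hx), fun y hy => ?_⟩)
    (fun x hx _ => bW (sB x hx)) fun x hx => bW (sB x hx)
  · simpa [commutatorElement_def] using mul_mem (hB (sB x hx)) hx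
  · obtain ⟨q, hq, rfl⟩ : x ∈ gB e := h.cB ▸ ⟨hE.le hx, cent_mono bW hY.2⟩
    exact ⟨_, cLB hs hq, map_commutatorElement _ _ _⟩
  · obtain ⟨w, hw, rfl⟩ := hR hx
    obtain ⟨w', hw', rfl⟩ := hR hy.1
    obtain ⟨k1, k2⟩ := k w w' hx hy.1 (co w hW) (co w' hy)
    rw [← Pt.comm_R_b hs hw] at k1 k2
    rw [← map_commutatorElement]
    exact (cm hw' (cB hs hw) k1 k2).map e

end E3cx

open E3cx in
theorem e3c : E3c.{u} := by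
  intro G _ _ F K _ _ _ _ 𝒟 e h E H hE hQ hR hB hZ
  have t0 : ∀ x, e x ∈ E → x.t = 0 := fun x hx => (mem_map_iff_mem h.inj).1 (hR hx)
  have span : ∀ b, (∀ x, e x ∈ E → 𝒟.T (x.v * b) = 0 ∧ 𝒟.T (x.d * b) = 0) → b = 0 := fun b hb => by
    have h1 : (Pt.x2 b : Pt 𝒟) ∈ Pt.B 𝒟 := ⟨rfl, rfl, rfl⟩
    refine ((mem_map_iff_mem h.inj).1 (hZ _ (hB ⟨_, h1, rfl⟩) fun y hy => ?_)).2.1
    obtain ⟨p, hp, rfl⟩ := hR hy
    exact ((cm hp h1 (hb p hy).1 (hb p hy).2).map e).symm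
  rcases la h.toLA (fun x => e x ∈ E) span with ⟨u, hu⟩ | ⟨p₁, p₂, hp, hl⟩
  · refine .inl (le_antisymm hR ?_)
    rintro _ ⟨s, hs, rfl⟩
    refine ch h hE hR hB hZ hs fun w w' h1 h2 h3 h4 => ?_
    obtain ⟨⟨a, ea⟩, b, eb⟩ := hu w h1 h3
    obtain ⟨⟨a', ea'⟩, b', eb'⟩ := hu w' h2 h4
    rw [ea, eb, ea', eb']
    constructor <;> apply 𝒟.inj <;> pt_push <;> grind
  · have h1 : p₁ ≠ 0 := by
      rintro rfl
      refine hQ fun x hx => ?_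
      obtain ⟨p, -, rfl⟩ := hR hx
      have k := hl p hx
      rw [zero_smul, zero_add, Algebra.smul_def] at k
      exact ⟨p, smul0 (hp.resolve_left fun k => k rfl) k, rfl⟩
    have hd : ∀ x, e x ∈ E → x.d + (p₂ / p₁) • x.v = 0 := fun x hx => smul0 h1 (by
      rw [← hl x hx, ← Algebra.smul_def, smul_add, smul_smul, mul_div_cancel₀ _ h1])
    refine .inr ⟨p₂ / p₁, fun g => ⟨fun hg => ?_, ?_⟩⟩
    · obtain ⟨r, hr, rfl⟩ := hR hg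
      refine ⟨Pt.x5 (p₂ / p₁) * r * (Pt.x5 (p₂ / p₁))⁻¹, ?_, ?_, by rw [map_mul, map_mul, map_inv]⟩ <;> rw [Pt.conj5 _ hr]
      exact hd r hg
    · rintro ⟨p, p1, p2, ep⟩
      obtain ⟨r, rfl⟩ : ∃ r, p = Pt.x5 (p₂ / p₁) * r * (Pt.x5 (p₂ / p₁))⁻¹ :=
        ⟨(Pt.x5 (p₂ / p₁))⁻¹ * p * Pt.x5 (p₂ / p₁), by group⟩
      rw [map_mul, map_mul, map_inv, mul_left_inj, mul_right_inj] at ep
      have hr : r.t = 0 := by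
        rw [Pt.mul_t, Pt.mul_t, Pt.inv_t] at p2
        have := 𝒟.charF
        rwa [add_right_comm, CharTwo.add_self_eq_zero, zero_add] at p2
      rw [Pt.conj5 _ hr] at p1
      refine ep ▸ ch h hE hR hB hZ hr fun w w' h1 _ _ _ => ?_
      rw [CharTwo.add_eq_zero.1 p1, CharTwo.add_eq_zero.1 (hd w h1), 𝒟.cr_smul, 𝒟.cr_smul, 𝒟.cr_comm,
        CharTwo.add_self_eq_zero, mul_zero, mul_zero, map_zero]
      exact ⟨rfl, rfl⟩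

end CL.SYU
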