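/-
Project SYU (port of SY): subgroups of `B X₀` centralising `x₀(u)` are not essential.
-/
import Cfsg.Agent.SYU.Defs
import Cfsg.Agent.SYU.E3b

set_option autoImplicit false
set_option linter.unusedSectionVars false

namespace CL.SYU

open CL.SY

open Subgroup Cfsg CL.Even CL.Grp
open scoped commutatorElement

universe u

namespace E3xx

open Pt

variable {F K : Type} [Field F] [Field K] [Algebra F K] [CharP K 2] {𝒟 : Fd F K} {p q : Pt 𝒟}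

/-- the commutator form on `B X₀` -/
def γ (p q : Pt 𝒟) : F := 𝒟.T (p.v * q.b) + 𝒟.T (q.v * p.b)

/-- scaling -/
def sc (c : F) (p : Pt 𝒟) : Pt 𝒟 := ⟨c • p.v, 0, c • p.b, 0, 0, 0⟩

theorem γ_sc (c : F) (p q : Pt 𝒟) : γ (sc c p) q = c * γ p q := by
  simp only [γ, sc, smul_mul_assoc, mul_smul_comm, map_smul, smul_eq_mul]; ring

theorem γ_comm (p q : Pt 𝒟) : γ p q = γ q p := add_comm _ _

theorem commA (p4 : p.d = 0) (p5 : p.t = 0) (q4 : q.d = 0) (q5 : q.t = 0) : ⁅p, q⁆ = x1 (γ p q) := by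
  apply ext2 <;> simp only [x1, γ] <;> pt_push <;> (try simp only [p4, p5, q4, q5, map_zero]) <;> grind

theorem sqA (p4 : p.d = 0) (p5 : p.t = 0) : p * p = x1 (𝒟.T (p.v * p.b)) := by
  apply ext2 <;> simp only [x1] <;> pt_push <;> (try simp only [p4, p5, map_zero]) <;> grind

theorem x1_add (a b : F) : (x1 a * x1 b : Pt 𝒟) = x1 (a + b) := by
  apply ext2 <;> simp only [x1] <;> pt_push <;> grind

theorem x1_inv (a : F) : (x1 a : Pt 𝒟)⁻¹ = x1 a := by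
  apply ext2 <;> simp only [x1] <;> pt_push <;> grind

theorem x1_one {a : F} : (x1 a : Pt 𝒟) = 1 ↔ a = 0 := ⟨congrArg Pt.a, fun h => h ▸ rfl⟩

theorem comm_iff (p4 : p.d = 0) (p5 : p.t = 0) (q4 : q.d = 0) (q5 : q.t = 0) : Commute p q ↔ γ p q = 0 := by
  rw [← commutatorElement_eq_one_iff_commute, commA p4 p5 q4 q5, x1_one]

theorem cL (p5 : p.t = 0) (h : q ∈ L 𝒟) : Commute p q := by
  rw [← commutatorElement_eq_one_iff_commute, comm_L _ h.1 h.2.1 h.2.2.1 h.2.2.2, p5, zero_mul]; rfl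

/-- commutators of `A` with `X₀ L` in type `G₂` -/
theorem commG (k : 𝒟.G2) (p0 : p.v = 0) (p5 : p.t = 0) (q2 : q.b = 0) (q4 : q.d = 0) (q5 : q.t = 0) :
    ⁅p, q⁆ = ⟨0, 𝒟.T (q.v * p.b + q.v ^ 2 * p.d), 0, 𝒟.T (p.d ^ 2 * q.v), 0, 0⟩ := by
  apply ext2 <;> pt_push <;> (try simp only [p0, p5, q2, q4, q5, map_zero, k.1]) <;> grind

theorem mapT (k : 𝒟.G2) (x : K) : algebraMap F K (𝒟.T x) = x := by
  rw [𝒟.hT, k.1, k.1, CharTwo.add_self_eq_zero, zero_add]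

theorem two (h : 𝒟.LA) (k : 𝒟.D4) (b : K) : ∃ x y, 𝒟.T (x * b) = 0 ∧ 𝒟.T (y * b) = 0 ∧ 𝒟.cr x y ≠ 0 := by
  by_cases hb : b = 0
  · obtain ⟨x, y, -, -, e⟩ := h.ex2 k 1 one_ne_zero
    exact ⟨x, y, by simp [hb], by simp [hb], e ▸ one_ne_zero⟩
  · obtain ⟨x, y, h1, h2, e⟩ := h.ex2 k b hb
    exact ⟨x, y, h1, h2, e ▸ hb⟩

/-- a hyperplane is not isotropic in type `³D₄` -/
theorem hyp (h : 𝒟.LA) (k : 𝒟.D4) (r : Pt 𝒟)
    (H : ∀ v b, γ (x0 v) r = 0 → γ (x2 b) r = 0 → γ (x0 v : Pt 𝒟) (x2 b) = 0) : False := by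
  obtain ⟨x, y, h1, h2, h3⟩ := two h k r.b
  obtain ⟨x', y', k1, k2, k3⟩ := two h k r.v
  have H' : ∀ v b, 𝒟.T (v * r.b) = 0 → 𝒟.T (b * r.v) = 0 → 𝒟.T (v * b) = 0 := fun v b e1 e2 => by
    simpa [γ, x0, x2] using H v b (by simpa [γ, x0] using e1) (by simpa [γ, x2, mul_comm] using e2)
  obtain ⟨c, e1⟩ := h.perp2 x y x' h3 (H' _ _ h1 k1) (H' _ _ h2 k1)
  obtain ⟨c', e2⟩ := h.perp2 x y y' h3 (H' _ _ h1 k2) (H' _ _ h2 k2)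
  exact k3 (by rw [e1, e2, Fd.cr_smul, Fd.cr_comm, Fd.cr_smul, Fd.cr_self]; simp)

variable {G : Type u} [Group G] [Finite G] {e : Pt 𝒟 →* G} {E H : Subgroup G} {u : K}

/-- the root subgroup `X₁` -/
def X1 (e : Pt 𝒟 →* G) : Subgroup G where
  carrier := {g | ∃ a, e (x1 a) = g}
  one_mem' := ⟨0, map_one e⟩
  mul_mem' := by rintro _ _ ⟨a, rfl⟩ ⟨b, rfl⟩; exact ⟨a + b, by rw [← x1_add, map_mul]⟩
  inv_mem' := by rintro _ ⟨a, rfl⟩; exact ⟨a, by rw [← map_inv, x1_inv]⟩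

structure Cx (e : Pt 𝒟 →* G) (E H : Subgroup G) (u : K) : Prop where
  la : 𝒟.LA
  inj : Function.Injective e
  es : EssT (gS e) E H
  hA : ∀ g ∈ E, g ∈ gA' e
  hL : gL e ≤ E
  u0 : u ≠ 0
  uE : e (x0 u) ∈ E
  uC : ∀ y ∈ E, Commute (e (x0 u)) y

namespace Cx

variable (h : Cx e E H u)
include h

theorem dt (hp : e p ∈ E) : p.d = 0 ∧ p.t = 0 := by
  obtain ⟨q, q4, q5, k⟩ := h.hA _ hp
  exact h.inj k ▸ ⟨q4, q5⟩

theorem ex {x : G} (hx : x ∈ E) : ∃ p, e p = x := (h.es.le hx :)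

theorem mL (hp : p ∈ L 𝒟) : e p ∈ E := h.hL (mem_map_of_mem e hp)

theorem m1 (a : F) : e (x1 a) ∈ E := h.mL ⟨rfl, rfl, rfl, rfl⟩

theorem ci (p4 : p.d = 0) (p5 : p.t = 0) (hq : e q ∈ E) : Commute (e p) (e q) ↔ γ p q = 0 := by
  rw [← comm_iff p4 p5 (h.dt hq).1 (h.dt hq).2]
  exact ⟨fun k => k.of_map h.inj, fun k => k.map e⟩

theorem cm (p4 : p.d = 0) (p5 : p.t = 0) (hq : e q ∈ E) : ⁅e p, e q⁆ = e (x1 (γ p q)) := by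
  rw [← map_commutatorElement, commA p4 p5 (h.dt hq).1 (h.dt hq).2]

theorem c1 (p4 : p.d = 0) (p5 : p.t = 0) {x : G} (hx : x ∈ E) : ⁅e p, x⁆ ∈ X1 e := by
  obtain ⟨q, rfl⟩ := h.ex hx
  exact ⟨_, (h.cm p4 p5 hx).symm⟩

theorem nE {s : G} (k : ∀ x ∈ E, ⁅s, x⁆ ∈ E) : s ∈ 𝒩(E) := mem_norm_of_cj_le (by
  rintro _ ⟨x, hx, rfl⟩
  simpa [commutatorElement_def] using mul_mem (k x hx) hx)

theorem XE : X1 e ≤ E := by rintro _ ⟨a, rfl⟩; exact h.m1 a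

theorem nA (p4 : p.d = 0) (p5 : p.t = 0) : e p ∈ 𝒩(E) := h.nE fun _ hx => h.XE (h.c1 p4 p5 hx)

theorem cX (p5 : p.t = 0) {x : G} (hx : x ∈ X1 e) : Commute (e p) x := by
  obtain ⟨a, rfl⟩ := hx
  exact (cL p5 ⟨rfl, rfl, rfl, rfl⟩).map e

theorem msc (c : F) (hp : e p ∈ E) : e (sc c p) ∈ E := by
  have nY : 𝒩(E) ≤ 𝒩(E ⊓ 𝒞(E)) := le_norm_inf le_rfl (norm_le_norm_cent E)
  have k : ∀ x ∈ E, ⁅e (sc c p), x⁆ ∈ E ⊓ 𝒞(E) := fun x hx => ⟨h.XE (h.c1 rfl rfl hx), fun y hy => by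
    obtain ⟨q, rfl⟩ := h.ex hy
    exact h.cX (h.dt hy).2 (h.c1 rfl rfl hx)⟩
  refine h.es.chain nY nY nY nY ⟨_, rfl⟩ (h.nA rfl rfl) (fun x hx hY => ?_) (fun x hx _ => k x hx)
    (fun x hx _ => k x hx) (fun x hx _ => k x hx) k
  obtain ⟨q, rfl⟩ := h.ex hx
  rw [h.ci rfl rfl hx, γ_sc, (h.ci (h.dt hp).1 (h.dt hp).2 hx).1 (hY.2 _ hp), mul_zero]

theorem nX : ¬ 𝒩(E) ≤ 𝒩(X1 e) := fun n => by
  obtain ⟨b, hb⟩ := h.la.surj u h.u0 1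
  have k := fun x hx => h.c1 (p := x2 b) rfl rfl (x := x) hx
  have m : e (x2 b) ∈ E := h.es.chain n n n n ⟨_, rfl⟩ (h.nA rfl rfl) (fun x _ hx => h.cX rfl hx)
    (fun x hx _ => k x hx) (fun x hx _ => k x hx) (fun x hx _ => k x hx) k
  have := (h.ci rfl rfl m).1 (h.uC _ m)
  simp [γ, x0, x2, hb] at this

/-- `E` is abelian -/
theorem ab {x y : G} (hx : x ∈ E) (hy : y ∈ E) : Commute x y := by
  obtain ⟨p, rfl⟩ := h.ex hx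
  obtain ⟨q, rfl⟩ := h.ex hy
  refine (h.ci (h.dt hx).1 (h.dt hx).2 hy).2 (by_contra fun k => h.nX fun g hg => mem_norm_of_cj_le ?_)
  rintro _ ⟨_, ⟨a, rfl⟩, rfl⟩
  obtain ⟨r, er⟩ := h.ex (conj_mem hg (h.msc (a / γ p q) hx))
  have := h.c1 (h.dt (er ▸ conj_mem hg (h.msc (a / γ p q) hx))).1 (h.dt (er ▸ conj_mem hg (h.msc (a / γ p q) hx))).2
    (conj_mem hg hy)
  rw [er, ← conjugate_commutatorElement, h.cm rfl rfl hy, γ_sc, div_mul_cancel₀ _ k] at this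
  exact this

/-- the consequence of the dihedral argument -/
theorem dih {g z t t₁ : G} (g1 : g ∈ 𝒩(E)) (g2 : g ∉ H) (i1 : Iv (gS e) E t) (i2 : Iv (gS e) E t₁) (c1 : Commute t z)
    (c2 : Commute t₁ (g⁻¹ * z * g)) : (∃ m ∈ E, z = ⁅t, m⁆) ↔ ∃ m ∈ E, z = ⁅g * t₁ * g⁻¹, m⁆ := by
  obtain ⟨-, w, hw, k⟩ := h.es.od g1 g2 i1 i2
  have n2 : g * t₁ * g⁻¹ ∈ 𝒩(E) := mul_mem (mul_mem g1 i2.norm) (inv_mem g1)
  have : closure ({t, g * t₁ * g⁻¹} : Set G) ≤ 𝒩(E) ⊓ centralizer {z} := (closure_le _).2 (by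
    rintro _ (rfl | rfl)
    · exact ⟨i1.norm, mem_centralizer_singleton_iff.2 c1⟩
    · refine ⟨n2, mem_centralizer_singleton_iff.2 ?_⟩
      calc g * t₁ * g⁻¹ * z = g * (t₁ * (g⁻¹ * z * g)) * g⁻¹ := by group
        _ = _ := by rw [c2.eq]; group)
  exact E3bx.comm_iff (this hw).1 (mem_centralizer_singleton_iff.1 (this hw).2) n2
    (sup_le_cent le_rfl (fun x hx y hy => (h.ab hy hx).eq) k)

theorem caseD (k : 𝒟.D4) : False := by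
  obtain ⟨g, g1, g2, g3⟩ : ∃ g ∈ 𝒩(E), g ∉ H ∧ g ∉ 𝒩(X1 e) := by
    by_contra! k
    obtain ⟨g, g1, g2⟩ := h.es.ne
    refine h.nX fun x hx => by_contra fun m => m ?_
    have xH : x ∈ H := by_contra fun m' => m (k x hx m')
    exact (mul_mem_cancel_right (k g g1 g2)).1 (k _ (mul_mem hx g1) fun m' => g2 ((mul_mem_cancel_left xH).1 m'))
  obtain ⟨a, g4⟩ : ∃ a, g⁻¹ * e (x1 a) * g ∉ X1 e := by
    by_contra! k
    exact g3 (inv_mem_iff.1 (mem_norm_of_cj_le (by rintro _ ⟨_, ⟨a, rfl⟩, rfl⟩; simpa using k a)))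
  obtain ⟨r, er⟩ := h.ex (conj_mem' g1 (h.m1 a))
  have rE : e r ∈ E := er ▸ conj_mem' g1 (h.m1 a)
  obtain ⟨s, s4, s5, s1, s2⟩ : ∃ s : Pt 𝒟, s.d = 0 ∧ s.t = 0 ∧ γ s r = 0 ∧ e s ∉ E := by
    by_contra! k'
    exact hyp h.la k r fun v b e1 e2 => (h.ci rfl rfl (k' _ rfl rfl e2)).1 (h.ab (k' _ rfl rfl e1) (k' _ rfl rfl e2))
  have i : Iv (gS e) E (e s) := ⟨⟨_, rfl⟩, h.nA s4 s5, s2, by rw [← map_mul, sqA s4 s5]; exact h.m1 _⟩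
  obtain ⟨x, hx, n⟩ : ∃ x ∈ E, ¬ Commute (e s) x := by
    by_contra! k'
    exact s2 (h.es.cen _ ⟨_, rfl⟩ k')
  obtain ⟨q, rfl⟩ := h.ex hx
  rw [h.ci s4 s5 hx] at n
  obtain ⟨m, hm, em⟩ := (h.dih g1 g2 i i (h.cX s5 ⟨a, rfl⟩) (er ▸ (h.ci s4 s5 rE).2 s1)).1
    ⟨_, h.msc (a / γ s q) hx, by rw [h.cm s4 s5 (h.msc _ hx), γ_comm s (sc _ _), γ_sc, γ_comm q s, div_mul_cancel₀ _ n]⟩
  have := h.c1 s4 s5 (conj_mem' g1 hm)
  exact g4 (by rw [em]; convert this using 1; simp only [commutatorElement_def]; group)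

theorem caseG (k : 𝒟.G2) : False := by
  have := h.la.finK
  have : Finite F := Finite.of_injective _ (algebraMap F K).injective
  have b0 : ∀ {p}, e p ∈ E → p.b = 0 := fun {p} hp => by
    have := congrArg (algebraMap F K) ((h.ci rfl rfl hp).1 (h.uC _ hp))
    simpa [γ, x0, mapT k, h.u0] using this
  have m0 : ∀ v, e (x0 v) ∈ E := fun v => by
    have := h.msc (𝒟.T (v / u)) h.uE
    rwa [show sc (𝒟.T (v / u)) (x0 u) = x0 v by simp [sc, x0, Algebra.smul_def, mapT k, h.u0]] at this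
  have cm : ∀ {s q : Pt 𝒟}, s.v = 0 → s.t = 0 → e q ∈ E →
      ⁅e s, e q⁆ = e ⟨0, 𝒟.T (q.v * s.b + q.v ^ 2 * s.d), 0, 𝒟.T (s.d ^ 2 * q.v), 0, 0⟩ := fun s0 s5 hq => by
    rw [← map_commutatorElement, commG k s0 s5 (b0 hq) (h.dt hq).1 (h.dt hq).2]
  have iv : ∀ s : Pt 𝒟, s.v = 0 → s.t = 0 → s.b ≠ 0 ∨ s.d ≠ 0 → Iv (gS e) E (e s) := fun s s0 s5 n =>
    ⟨⟨_, rfl⟩, h.nE fun x hx => by
      obtain ⟨q, rfl⟩ := h.ex hx
      rw [cm s0 s5 hx]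
      exact h.mL ⟨rfl, rfl, rfl, rfl⟩, fun m => n.elim (· (b0 m)) (· (h.dt m).1), by
      rw [← map_mul, sq_Q s0]; exact h.mL ⟨rfl, rfl, rfl, rfl⟩⟩
  obtain ⟨g, g1, g2⟩ := h.es.ne
  obtain ⟨z, hz, z1, l, hl, el⟩ : ∃ z ∈ L 𝒟, z ≠ 1 ∧ ∃ l ∈ L 𝒟, e l = g⁻¹ * e z * g := by
    choose f hf using fun a : F × F => h.ex (conj_mem' g1 (h.mL (p := ⟨0, a.1, 0, a.2, 0, 0⟩) ⟨rfl, rfl, rfl, rfl⟩))
    have fE : ∀ a, e (f a) ∈ E := fun a => hf a ▸ conj_mem' g1 (h.mL ⟨rfl, rfl, rfl, rfl⟩)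
    have : ¬ Function.Injective fun a => 𝒟.T (f a).v := fun i => by
      have h1 := Nat.card_le_card_of_injective _ i
      have h2 := k.2
      rw [Nat.card_prod] at h1
      nlinarith
    obtain ⟨a, a', e1, e2⟩ := Function.not_injective_iff.1 this
    have e3 : (f a).v = (f a').v := by rw [← mapT k (f a).v, e1, mapT k]
    have mE := mul_mem (fE a) (inv_mem (fE a'))
    rw [← map_inv, ← map_mul] at mE
    refine ⟨⟨0, a.1, 0, a.2, 0, 0⟩ * (⟨0, a'.1, 0, a'.2, 0, 0⟩ : Pt 𝒟)⁻¹,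
      mul_mem ⟨rfl, rfl, rfl, rfl⟩ (inv_mem ⟨rfl, rfl, rfl, rfl⟩), fun r => e2 ?_, f a * (f a')⁻¹,
      ⟨by rw [mul_v, inv_v, e3, CharTwo.add_self_eq_zero], b0 mE, h.dt mE⟩, ?_⟩
    · rw [mul_inv_eq_one] at r
      exact Prod.ext (congrArg Pt.a r) (congrArg Pt.c r)
    · rw [map_mul, map_mul, map_inv, map_inv, hf, hf]; group
  have i1 := iv (x2 1) rfl rfl (Or.inl one_ne_zero)
  have key : ∀ s : Pt 𝒟, s.v = 0 → s.t = 0 → s.b ≠ 0 ∨ s.d ≠ 0 →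
      ((∃ v, z.a = 𝒟.T (v * s.b + v ^ 2 * s.d) ∧ z.c = 𝒟.T (s.d ^ 2 * v)) ↔
        ∃ m ∈ E, e z = ⁅g * e (x2 1) * g⁻¹, m⁆) := fun s s0 s5 n => by
    rw [← h.dih g1 g2 (iv s s0 s5 n) i1 ((cL s5 hz).map e) (el ▸ (cL rfl hl).map e)]
    constructor
    · rintro ⟨v, e1, e2⟩
      exact ⟨_, m0 v, by rw [cm s0 s5 (m0 v)]; exact congrArg e (Pt.ext hz.1 e1 hz.2.1 e2 hz.2.2.1 hz.2.2.2)⟩
    · rintro ⟨m, hm, r⟩
      obtain ⟨q, rfl⟩ := h.ex hm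
      rw [cm s0 s5 hm] at r
      exact ⟨q.v, congrArg Pt.a (h.inj r), congrArg Pt.c (h.inj r)⟩
  have all : ∃ m ∈ E, e z = ⁅g * e (x2 1) * g⁻¹, m⁆ := by
    by_cases c0 : z.c = 0
    · exact (key (x2 1) rfl rfl (Or.inl one_ne_zero)).1 ⟨algebraMap F K z.a, by simp [x2, 𝒟.T_map], by simp [x2, c0]⟩
    · have c1 : algebraMap F K z.c ≠ 0 := by simpa using c0
      refine (key ⟨0, 0, (algebraMap F K z.a + algebraMap F K z.c ^ 2) / algebraMap F K z.c, 0, 1, 0⟩ rfl rfl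
        (Or.inr one_ne_zero)).1 ⟨algebraMap F K z.c, ?_, by simp [𝒟.T_map]⟩
      rw [mul_div_cancel₀ _ c1, mul_one, add_assoc, CharTwo.add_self_eq_zero, add_zero, 𝒟.T_map]
  obtain ⟨v, -, e1⟩ := (key (x2 1) rfl rfl (Or.inl one_ne_zero)).2 all
  obtain ⟨w, e2, e3⟩ := (key (x4 1) rfl rfl (Or.inr one_ne_zero)).2 all
  have c0 : z.c = 0 := by simpa [x2] using e1
  have w0 : w = 0 := by rw [← mapT k w]; simpa [x4, c0] using e3.symm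
  exact z1 (Pt.ext hz.1 (show z.a = 0 by simpa [w0] using e2) hz.2.1 c0 hz.2.2.1 hz.2.2.2)

end Cx

end E3xx

theorem e3x : E3x.{u} := by
  intro G _ _ F K _ _ _ _ 𝒟 e h E H u T hA hL u0 uE uC
  have c : E3xx.Cx e E H u := ⟨h.toSt.toLA, h.inj, T, hA, hL, u0, uE, uC⟩
  exact h.kind.elim c.caseG c.caseD

end CL.SYU
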