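/-
Project SYU: working properties of essential subgroups modulo the centralizer.
-/
import Cfsg.Agent.SYU.Defs
import Cfsg.Agent.SY.SET

set_option autoImplicit false

namespace CL.SYU

open CL.SY CL.SY.SETx
open Subgroup Cfsg CL.Even CL.Grp
open scoped commutatorElement

universe u

variable {G : Type u} [Group G]

/-- `H` is the preimage of a strongly embedded subgroup of `N(E) / E C(E)` -/
structure EssW (S E H : Subgroup G) : Prop where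
  le : E ≤ S
  pS : IsPGroup 2 S
  cen : ∀ s ∈ S, (∀ x ∈ E, Commute s x) → s ∈ E
  Hle : H ≤ 𝒩(E)
  TH : S ⊓ 𝒩(E) ≤ H
  CH : 𝒞(E) ≤ H
  ne : ∃ g ∈ 𝒩(E), g ∉ H
  lt : ¬ S ≤ E
  se : ∀ g ∈ 𝒩(E), g ∉ H → ∀ t ∈ H, (∃ k, t ^ 2 ^ k ∈ E ⊔ 𝒞(E)) → g⁻¹ * t * g ∈ H → t ∈ E ⊔ 𝒞(E)
  key : ∀ {P : Subgroup G}, P ≤ 𝒩(E) → IsPGroup 2 P → ∀ {t}, t ∈ P → t ∈ H → t ∉ E ⊔ 𝒞(E) → P ≤ H
  key2 : ∀ {t y}, t ∈ 𝒩(E) → y ∈ 𝒩(E) → t * t ∈ E ⊔ 𝒞(E) → y * y ∈ E ⊔ 𝒞(E) → t * y * t⁻¹ * y⁻¹ ∈ E ⊔ 𝒞(E) →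
    t ∈ H → t ∉ E ⊔ 𝒞(E) → y ∈ H

namespace Setx

theorem nD (E : Subgroup G) : 𝒩(E) ≤ 𝒩(E ⊔ 𝒞(E)) := le_norm_sup le_rfl (norm_le_norm_cent E)

variable [Finite G] {S E H : Subgroup G} (h : EssW S E H)
include h

omit [Finite G] in
theorem out {t : G} (ht : t ∈ S) (hE : t ∉ E) : t ∉ E ⊔ 𝒞(E) := fun k => hE (mem_of_sup h.le h.cen ht k)

omit [Finite G] in
theorem key' {g : G} (hg : g ∈ 𝒩(E)) {P : Subgroup G} (hPN : P ≤ 𝒩(E)) (hP : IsPGroup 2 P) {t : G}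
    (ht : g * t * g⁻¹ ∈ P) (htH : t ∈ H) (htE : t ∉ E ⊔ 𝒞(E)) : P ≤ cj g H :=
  le_cj_iff.2 (h.key (cj_le_of_mem hPN (inv_mem hg)) (isPGroup_cj hP _) (mem_cj.2 (by rwa [inv_inv])) htH htE)

omit [Finite G] in
theorem iv {s : G} (hs : s ∈ S) (hN : s ∈ 𝒩(E)) (hE : s ∉ E) : ∃ n : ℕ, Iv S E (s ^ n) := by
  obtain ⟨k, hk⟩ := isPGroup_iff_forall.1 h.pS s hs
  have h1 : s ^ 2 ^ k ∈ E := hk ▸ one_mem E
  clear hk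
  induction k generalizing s with
  | zero => exact (hE (by simpa using h1)).elim
  | succ k ih =>
    by_cases h2 : s * s ∈ E
    · exact ⟨1, by rw [pow_one]; exact ⟨hs, hN, hE, h2⟩⟩
    · obtain ⟨n, hn⟩ := ih (mul_mem hs hs) (mul_mem hN hN) h2 (by rwa [← sq, ← pow_mul, ← pow_succ'])
      exact ⟨2 * n, by rwa [pow_mul, sq]⟩

theorem od {g t t₁ : G} (hg : g ∈ 𝒩(E)) (hgH : g ∉ H) (i : Iv S E t) (i₁ : Iv S E t₁) :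
    (∃ n, Odd n ∧ (t * (g * t₁ * g⁻¹)) ^ n ∈ E ⊔ 𝒞(E)) ∧
      ∃ w ∈ closure ({t, g * t₁ * g⁻¹} : Set G), w * t * w⁻¹ * (g * t₁ * g⁻¹)⁻¹ ∈ E ⊔ 𝒞(E) := by
  have hN' : g * t₁ * g⁻¹ ∈ 𝒩(E) := mul_mem (mul_mem hg i₁.norm) (inv_mem hg)
  have h2' : g * t₁ * g⁻¹ * (g * t₁ * g⁻¹) ∈ E := by
    have := conj_mem hg i₁.sq
    rwa [← conj_mul] at this
  have hn : ((E ⊔ 𝒞(E)).subgroupOf 𝒩(E)).Normal :=
    (normal_subgroupOf_iff_le_normalizer (sup_le le_normalizer (cent_le_norm E))).2 (nD E)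
  let φ := QuotientGroup.mk' ((E ⊔ 𝒞(E)).subgroupOf 𝒩(E))
  have hφ : ∀ x : 𝒩(E), φ x = 1 ↔ (x : G) ∈ E ⊔ 𝒞(E) := fun x => QuotientGroup.eq_one_iff x
  have d := dih (a := φ ⟨t, i.norm⟩) (b := φ ⟨_, hN'⟩) (by rw [← map_mul, hφ]; exact mem_sup_left i.sq)
    (by rw [← map_mul, hφ]; exact mem_sup_left h2')
  simp only [← map_mul, ← map_pow, ← map_inv, Ne, hφ, Subgroup.coe_mul, Subgroup.coe_pow, Subgroup.coe_inv] at d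
  rcases d with ⟨k, k1, k2, k3, k4⟩ | ⟨n, hn, k1, k, k2⟩
  · exfalso
    have hy : (t * (g * t₁ * g⁻¹)) ^ k ∈ 𝒩(E) := pow_mem (mul_mem i.norm hN') k
    generalize (t * (g * t₁ * g⁻¹)) ^ k = y at k1 k2 k3 k4 hy
    refine k1 (h.se g hg hgH y (h.key2 i.norm hy (mem_sup_left i.sq) k2 k3 (h.TH ⟨i.mem, i.norm⟩) (out h i.mem i.out))
      ⟨1, by rwa [pow_one, sq]⟩ (h.key2 i₁.norm (mul_mem (mul_mem (inv_mem hg) hy) hg) (mem_sup_left i₁.sq) ?_ ?_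
        (h.TH ⟨i₁.mem, i₁.norm⟩) (out h i₁.mem i₁.out)))
    · have := conj_mem' (nD E hg) k2
      rwa [show g⁻¹ * (y * y) * g = g⁻¹ * y * g * (g⁻¹ * y * g) by group] at this
    · have := conj_mem' (nD E hg) k4
      rwa [show g⁻¹ * (g * t₁ * g⁻¹ * y * (g * t₁ * g⁻¹)⁻¹ * y⁻¹) * g =
        t₁ * (g⁻¹ * y * g) * t₁⁻¹ * (g⁻¹ * y * g)⁻¹ by group] at this
  · exact ⟨⟨n, hn, k1⟩, _, pow_mem (mul_mem (subset_closure (by simp)) (subset_closure (by simp))) k, k2⟩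

theorem cnj {t t₁ : G} (i : Iv S E t) (i₁ : Iv S E t₁) : ∃ w ∈ 𝒩(E), w * t * w⁻¹ * t₁⁻¹ ∈ E ⊔ 𝒞(E) := by
  obtain ⟨g, hg, hgH⟩ := h.ne
  obtain ⟨-, w, hw, k⟩ := od h hg hgH i i₁
  have hwN : w ∈ 𝒩(E) := (closure_le 𝒩(E)).2 (Set.insert_subset i.norm
    (Set.singleton_subset_iff.2 (mul_mem (mul_mem hg i₁.norm) (inv_mem hg)))) hw
  refine ⟨g⁻¹ * w, mul_mem (inv_mem hg) hwN, ?_⟩
  have := conj_mem' (nD E hg) k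
  rwa [show g⁻¹ * (w * t * w⁻¹ * (g * t₁ * g⁻¹)⁻¹) * g = g⁻¹ * w * t * (g⁻¹ * w)⁻¹ * t₁⁻¹ by group] at this

theorem ker {M : Subgroup G} {s t : G} (hEM : E ⊔ 𝒞(E) ≤ M) (hN : 𝒩(E) ≤ 𝒩(M)) (hsM : s ∈ M) (hs : s ∈ S)
    (hsN : s ∈ 𝒩(E)) (hsE : s ∉ E) (i : Iv S E t) : t ∈ M := by
  obtain ⟨n, j⟩ := iv h hs hsN hsE
  obtain ⟨w, hw, k⟩ := cnj h j i
  exact inv_mem_iff.1 ((mul_mem_cancel_left (conj_mem (hN hw) (pow_mem hsM n))).1 (hEM k))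

theorem chainW {W C₁ C₂ C₃ C₄ : Subgroup G} {g t t₁ s : G} (hW : W ≤ 𝒩(E)) (hg : g ∈ 𝒩(E)) (hgH : g ∉ H)
    (ht : t ∈ S) (htE : t ∉ E) (ht₁ : t₁ ∈ S) (ht₁N : t₁ ∈ 𝒩(E)) (ht₁E : t₁ ∉ E) (htW : t ∈ W)
    (ht' : g * t₁ * g⁻¹ ∈ W) (n1 : W ≤ 𝒩(C₁)) (n2 : W ≤ 𝒩(C₂)) (n3 : W ≤ 𝒩(C₃)) (n4 : W ≤ 𝒩(C₄)) (hs : s ∈ W)
    (hs2 : ∃ k, s ^ 2 ^ k = 1) (c0 : ∀ x ∈ E, x ∈ C₁ → Commute s x) (c1 : ∀ x ∈ E, x ∈ C₂ → ⁅s, x⁆ ∈ C₁)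
    (c2 : ∀ x ∈ E, x ∈ C₃ → ⁅s, x⁆ ∈ C₂) (c3 : ∀ x ∈ E, x ∈ C₄ → ⁅s, x⁆ ∈ C₃) (c4 : ∀ x ∈ E, ⁅s, x⁆ ∈ C₄) :
    s ∈ E ⊔ 𝒞(E) := by
  have pE : IsPGroup 2 E := h.pS.to_le h.le
  have n0 : W ≤ 𝒩(⊥) := normalizer_eq_top (⊥ : Subgroup G) ▸ le_top
  have n5 : W ≤ 𝒩(⊤) := le_norm_of_le le_top
  obtain ⟨K, hK⟩ : ∃ K : Subgroup G, K = stab W E C₁ ⊥ n0 ⊓ (stab W E C₂ C₁ n1 ⊓ (stab W E C₃ C₂ n2 ⊓
    (stab W E C₄ C₃ n3 ⊓ stab W E ⊤ C₄ n4))) := ⟨_, rfl⟩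
  have hWK : W ≤ 𝒩(K) := hK ▸ le_norm_inf (norm_stab n0 hW n1) (le_norm_inf (norm_stab n1 hW n2)
    (le_norm_inf (norm_stab n2 hW n3) (le_norm_inf (norm_stab n3 hW n4) (norm_stab n4 hW n5))))
  have hKN : K ≤ 𝒩(E) := fun k hk => hW (hK ▸ hk).1.1
  have hsK : s ∈ K := hK ▸ ⟨⟨hs, fun x hx hx' => mem_bot.2 (commutatorElement_eq_one_iff_commute.2 (c0 x hx hx'))⟩,
    ⟨hs, c1⟩, ⟨hs, c2⟩, ⟨hs, c3⟩, hs, fun x hx _ => c4 x hx⟩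
  have ho : ∀ k ∈ K, (orderOf k).Coprime 2 → k ∈ 𝒞(E) := fun k hk ho => by
    have hkN := hKN hk
    rw [hK] at hk
    obtain ⟨a0, a1, a2, a3, a4⟩ := hk
    have l := layer pE hkN ho (layer pE hkN ho (layer pE hkN ho (layer pE hkN ho
      (fun x hx hx' => commutatorElement_eq_one_iff_commute.1 (mem_bot.1 (a0.2 x hx hx'))) a1.2) a2.2) a3.2) a4.2
    exact mem_centralizer_iff.2 fun x hx => (l x hx trivial).eq.symm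
  have h1 : K ≤ H := K_le hKN (hW htW) (isPGroup_iff_forall.1 h.pS t ht) (hWK htW) h.CH ho
    fun P a b c => h.key a b c (h.TH ⟨ht, hW htW⟩) (out h ht htE)
  have h2 : K ≤ cj g H := K_le hKN (hW ht') ((isPGroup_iff_forall.1 h.pS t₁ ht₁).imp fun k hk => by
      rw [conj_pow, hk, mul_one, mul_inv_cancel]) (hWK ht')
    (fun x hx => mem_cj.2 (h.CH (conj_mem' (norm_le_norm_cent E hg) hx))) ho
    fun P a b c => key' h hg a b c (h.TH ⟨ht₁, ht₁N⟩) (out h ht₁ ht₁E)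
  exact h.se g hg hgH s (h1 hsK) (hs2.imp fun k hk => by rw [hk]; exact one_mem _) (mem_cj.1 (h2 hsK))

end Setx

theorem EssW.essT [Finite G] {S E H : Subgroup G} (h : EssW S E H) : EssT S E H :=
  { h with
    od := Setx.od h
    cnj := Setx.cnj h
    ker := Setx.ker h
    chainW := Setx.chainW h
    chain := fun n1 n2 n3 n4 hs hsN c0 c1 c2 c3 c4 => by
      obtain ⟨g, hg, hgH⟩ := h.ne
      obtain ⟨t, ht, htE⟩ := SetLike.exists_of_lt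
        (lt_inf_normalizer_of_isPGroup h.pS (lt_of_le_not_ge h.le h.lt))
      exact mem_of_sup h.le h.cen hs (Setx.chainW h le_rfl hg hgH ht.1 htE ht.1 ht.2 htE ht.2
        (mul_mem (mul_mem hg ht.2) (inv_mem hg)) n1 n2 n3 n4 hsN (isPGroup_iff_forall.1 h.pS _ hs) c0 c1 c2 c3 c4) }

end CL.SYU
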