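/-
Project SYU: an essential subgroup of a saturated fusion system inside a finite group realizing the system.
-/
import Cfsg.Agent.SYU.Set
import Cfsg.Agent.Fus.EssExt
import Cfsg.Agent.Fus.Wreath

set_option autoImplicit false

namespace CL.SYU

open CL.SY CL.Fus
open Subgroup Cfsg Cfsg.FusionSystem CL.Even CL.Grp

universe u

variable {Ω : Type u} [Group Ω] {S E : Subgroup Ω} {F : FusionSystem S}

theorem park [Finite S] (hS : IsPGroup 2 S) (hF : F.IsSaturated 2) (hE : F.IsEssential 2 E) :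
    ∃ (G : Type u) (_ : Group G) (_ : Finite G) (ι : S →* G), Function.Injective ι ∧
      ∃ H, EssT ι.range ((E.subgroupOf S).map ι) H := by
  have := Fact.mk Nat.prime_two
  obtain ⟨D⟩ := nonempty_wreath F
  have hES : E ≤ S := hE.1.1
  have := finite_of_le hES
  have := finite_mulAut hES
  let ιQ : E →* D.W := D.ι.comp (Subgroup.inclusion hES)
  have hιQ : Function.Injective ιQ := D.ι_injective.comp (Subgroup.inclusion_injective hES)
  have eE : (E.subgroupOf S).map D.ι = ιQ.range := by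
    ext x
    exact ⟨fun ⟨s, hs, e⟩ => ⟨⟨s, hs⟩, e⟩, fun ⟨s, e⟩ => ⟨inclusion hES s, s.2, e⟩⟩
  obtain ⟨β, hβ0⟩ : ∃ β : 𝒩(ιQ.range) →* MulAut E, ∀ n x, ιQ (β n x) = n * ιQ x * (n : D.W)⁻¹ := by
    refine ⟨(MulAut.congr (MonoidHom.ofInjective hιQ).symm).toMonoidHom.comp ιQ.range.normalizerMonoidHom, fun n x => ?_⟩
    rw [← MonoidHom.ofInjective_apply hιQ]
    simp only [MonoidHom.comp_apply, MulEquiv.coe_toMonoidHom, MulAut.congr_apply, MulEquiv.symm_symm,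
      MulEquiv.trans_apply, MulEquiv.apply_symm_apply]
    rfl
  have hβF : ∀ n, β n ∈ F.autGroup E := fun n => (mem_autGroup_iff hES).2
    (D.mor_of_conj hES (fun x hx => hES (autFun_mem _ hx)) n fun x hx =>
      (hβ0 n ⟨x, hx⟩).symm.trans (congrArg D.ι (Subtype.ext (autFun_apply _ hx).symm)))
  have hD : ∀ n : 𝒩(ιQ.range), β n ∈ Inn E ↔ (n : D.W) ∈ ιQ.range ⊔ 𝒞(ιQ.range) := fun n => by
    constructor
    · rintro ⟨a, ha⟩
      have : (ιQ a)⁻¹ * n ∈ 𝒞(ιQ.range) := mem_centralizer_iff.2 (by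
        rintro _ ⟨x, rfl⟩
        have := hβ0 n x
        rw [← ha, MulAut.conj_apply, map_mul, map_mul, map_inv] at this
        calc ιQ x * ((ιQ a)⁻¹ * n) = (ιQ a)⁻¹ * (ιQ a * ιQ x * (ιQ a)⁻¹) * n := by group
          _ = _ := by rw [this]; group)
      have m0 : ιQ a ∈ ιQ.range := ⟨a, rfl⟩
      have m := mul_mem (mem_sup_left (T := 𝒞(ιQ.range)) m0) (mem_sup_right this)
      rwa [mul_inv_cancel_left] at m
    · intro k
      obtain ⟨_, ⟨a, rfl⟩, c, hc, e⟩ := (mem_sup_nl (cent_le_norm _)).1 k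
      refine ⟨a, MulEquiv.ext fun x => hιQ ?_⟩
      rw [hβ0, ← e, MulAut.conj_apply, map_mul, map_mul, map_inv, mul_assoc _ c, ← comm_of_mem hc ⟨x, rfl⟩]
      group
  let H : Subgroup D.W := ((extAut F E).comap β).map (𝒩(ιQ.range)).subtype
  have hH : ∀ n : 𝒩(ιQ.range), (n : D.W) ∈ H ↔ β n ∈ extAut F E := fun n =>
    ⟨fun ⟨m, hm, e⟩ => (Subtype.ext e : m = n) ▸ hm, fun k => ⟨n, k, rfl⟩⟩
  have HN : H ≤ 𝒩(ιQ.range) := map_subtype_le _
  have hI := IsEssential.Inn_le_extAut hS hF hE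
  refine ⟨D.W, inferInstance, inferInstance, D.ι, D.ι_injective, H, eE ▸ EssW.essT ⟨?_, ?_, ?_, HN, ?_, ?_, ?_, ?_, ?_, ?_, ?_⟩⟩
  · rintro _ ⟨x, rfl⟩; exact ⟨_, rfl⟩
  · exact hS.of_surjective _ D.ι.rangeRestrict_surjective
  · rintro _ ⟨s, rfl⟩ hs
    refine ⟨⟨s, IsCentric.centralizerIn_le hE.1 ⟨s.2, fun x hx => ?_⟩⟩, rfl⟩
    exact congrArg Subtype.val (D.ι_injective (a₁ := ⟨x, hES hx⟩ * s) (a₂ := s * ⟨x, hES hx⟩) (by
      rw [map_mul, map_mul]; exact (hs _ ⟨⟨x, hx⟩, rfl⟩).eq.symm))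
  · rintro _ ⟨⟨s, rfl⟩, hs⟩
    have e : ∀ x : E, (β ⟨_, hs⟩ x : Ω) = s * x * (s : Ω)⁻¹ := fun x => congrArg Subtype.val (D.ι_injective
      (a₁ := inclusion hES (β ⟨_, hs⟩ x)) (a₂ := s * inclusion hES x * s⁻¹) (by
        rw [map_mul, map_mul, map_inv]; exact hβ0 _ x))
    exact (hH ⟨_, hs⟩).2 (autInducedBy_le_extAut (IsEssential.lt_top hS hF hE)
      (mem_autInducedBy.2 ⟨s, s.2, fun x hx => (autFun_apply _ hx).trans (e _)⟩))
  · exact fun c hc => (hH ⟨c, cent_le_norm _ hc⟩).2 (hI ((hD _).2 (mem_sup_right hc)))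
  · obtain ⟨γ, hγ, k⟩ := IsEssential.exists_notMem_extAut hS hF hE
    obtain ⟨w, hw⟩ := D.stable E _ (mor_autFun hES hγ)
    have e : ∀ x : E, w * ιQ x * w⁻¹ = ιQ (γ x) := fun x => hw _ _ x.2 (autFun_coe γ x)
    have hN : w ∈ 𝒩(ιQ.range) := mem_normalizer_of_finite (by
      rintro _ ⟨x, rfl⟩
      exact ⟨_, (e x).symm⟩)
    refine ⟨w, hN, fun m => k ?_⟩
    rw [show γ = β ⟨w, hN⟩ from MulEquiv.ext fun x => hιQ ((e x).symm.trans (hβ0 ⟨w, hN⟩ x).symm)]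
    exact (hH ⟨w, hN⟩).1 m
  · intro k
    refine (IsEssential.lt_top hS hF hE).not_ge fun s hs => ?_
    obtain ⟨x, e⟩ := k ⟨⟨s, hs⟩, rfl⟩
    have e' : (x : Ω) = s := congrArg Subtype.val (D.ι_injective e)
    exact e' ▸ x.2
  · rintro g hg hgH t ht ⟨k, hk⟩ m
    by_contra c
    obtain ⟨l, hl⟩ := isPGroup_iff_forall.1 (isPGroup_Inn (hS.to_le hES)) _ ((hD (⟨t, HN ht⟩ ^ 2 ^ k)).2 hk)
    refine hgH ((hH ⟨g, hg⟩).2 (inv_mem_iff.1 (IsEssential.mem_extAut_of_conj hS hF hE ((hH ⟨t, HN ht⟩).1 ht)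
      (fun m => c ((hD _).1 m)) ⟨k + l, by rw [pow_add, pow_mul, ← map_pow, hl]⟩ (inv_mem (hβF _)) ?_)))
    rw [inv_inv, ← map_inv, ← map_mul, ← map_mul]
    exact (hH _).1 m
  · intro P hPN hP t htP ht c x hx
    exact (hH ⟨x, hPN hx⟩).2 (IsEssential.le_extAut_of_isPGroup hS hF hE (X := (P.subgroupOf _).map β)
      (hP.comap_subtype.map β) (by rintro _ ⟨n, -, rfl⟩; exact hβF n) (t := β ⟨t, hPN htP⟩) ⟨_, htP, rfl⟩
      ((hH _).1 ht) (fun m => c ((hD _).1 m)) ⟨_, hx, rfl⟩)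
  · intro t y ht hy t2 y2 c tH tD
    have nI : ∀ α : MulAut E, α ∈ 𝒩(Inn E) := fun α => by rw [normalizer_eq_top]; trivial
    obtain ⟨P, -, a2, a3, a4⟩ := SETx.pair (isPGroup_Inn (hS.to_le hES)) (nI (β ⟨t, ht⟩)) (nI (β ⟨y, hy⟩))
      (by rw [← map_mul]; exact (hD _).2 t2) (by rw [← map_mul]; exact (hD _).2 y2)
      (by rw [← map_inv, ← map_inv, ← map_mul, ← map_mul, ← map_mul]; exact (hD _).2 c)
    exact (hH ⟨y, hy⟩).2 (IsEssential.le_extAut_of_isPGroup hS hF hE (X := P ⊓ F.autGroup E) (a2.to_le inf_le_left)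
      inf_le_right ⟨a3, hβF _⟩ ((hH _).1 tH) (fun m => tD ((hD _).1 m)) ⟨a4, hβF _⟩)

end CL.SYU
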