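/-
Project SYU: the essential subgroups of a `2`-group of type `G₂(q)` or `³D₄(q)` in a saturated fusion system.
-/
import Cfsg.Agent.SYU.E1
import Cfsg.Agent.SYU.E2a
import Cfsg.Agent.SYU.E2b
import Cfsg.Agent.SYU.E2c
import Cfsg.Agent.SYU.E2d
import Cfsg.Agent.SYU.E2z
import Cfsg.Agent.SYU.E3a
import Cfsg.Agent.SYU.E3b
import Cfsg.Agent.SYU.E3c
import Cfsg.Agent.SYU.E3d
import Cfsg.Agent.SYU.E3x
import Cfsg.Agent.SYU.Park
import Cfsg.Agent.SY.SCH
import Cfsg.Agent.SY.SLA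

set_option autoImplicit false

namespace CL.SYU

open CL.SY
open Subgroup Cfsg CL.Even CL.Grp

universe u

variable {F K : Type} [Field F] [Field K] [Algebra F K] [CharP K 2] {𝒟 : Fd F K}

theorem ec {G : Type u} [Group G] [Finite G] {e : Pt 𝒟 →* G} (ok : 𝒟.Ok) (i : Function.Injective e) {E H : Subgroup G}
    (t : EssT (gS e) E H) : E = gQ e ∨ E = gR e := by
  have l := sla F K 𝒟 ok
  have h : St2 e := ⟨⟨l, i⟩, Sch.ce i (Sch.cQ l), Sch.ce i Sch.cL, Sch.ce i (Sch.cA l), Sch.ce i (Sch.cB l)⟩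
  by_cases q : E ≤ gQ e
  · exact .inl (e1 G F K 𝒟 e h E H t q)
  by_cases r : E ≤ gR e
  · have b := e3a e3x G F K 𝒟 e h E H t q r
    exact .inr ((e3c G F K 𝒟 e h E H t q r b (e3b G F K 𝒟 e h E H t q r b)).resolve_right
      fun ⟨s, hs⟩ => e3d G F K 𝒟 e h E H s t hs)
  · have b := e2a G F K 𝒟 e h E H t q r
    have a := e2b G F K 𝒟 e h E H t q r b (e2z G F K 𝒟 e h E H t q r b)
    exact (e2d G F K 𝒟 e h E H t q r a (e2c G F K 𝒟 e h E H t q r a)).elim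

/-- the essential subgroups of a saturated fusion system on a group isomorphic to `Pt 𝒟` -/
theorem ecF {Ω : Type u} [Group Ω] [Finite Ω] (hS : IsPGroup 2 Ω) (ok : 𝒟.Ok) (j : Pt 𝒟 →* Ω) (hj : Function.Bijective j)
    {X : FusionSystem (⊤ : Subgroup Ω)} (hF : X.IsSaturated 2) {E : Subgroup Ω} (hE : X.IsEssential 2 E) :
    E = (Pt.Q 𝒟).map j ∨ E = (Pt.R 𝒟).map j := by
  obtain ⟨G, _, _, ι, hι, H, t⟩ := park (hS.to_subgroup ⊤) hF hE
  let k : Ω →* G := ι.comp topEquiv.symm.toMonoidHom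
  have hk : Function.Injective k := hι.comp topEquiv.symm.injective
  have e1 : ι.range = gS (k.comp j) := by
    ext x
    refine ⟨?_, fun ⟨p, e⟩ => ⟨_, e⟩⟩
    rintro ⟨s, rfl⟩
    obtain ⟨p, e⟩ := hj.2 s
    exact ⟨p, congrArg ι (Subtype.ext e)⟩
  have e2 : (E.subgroupOf ⊤).map ι = E.map k := by
    ext x
    exact ⟨fun ⟨s, hs, e⟩ => ⟨s, hs, e⟩, fun ⟨s, hs, e⟩ => ⟨_, hs, e⟩⟩
  rw [e1, e2] at t
  exact (ec ok (hk.comp hj.1) t).imp (fun h => map_injective hk (h.trans (map_map _ _ _).symm))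
    fun h => map_injective hk (h.trans (map_map _ _ _).symm)

end CL.SYU
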